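import Cfsg.Agent.H745.TF.Q2

/-!
# S5262, `q = 2`, A-side: the finite parts (kernel checks, helper483)
-/

set_option autoImplicit false

namespace Cfsg.Agent.H483.TF

open Cfsg Cfsg.FusionSystem Cfsg.Agent.H756.PU Cfsg.Agent.H802 Cfsg.Agent.H745.TF

universe u v

/-- (INV5) the involutions of `QA ∖ D` lie in five cosets of `D`: `x7 D` and the four conjugates of `x1 D` under `x8` -/
def StInv5 : Prop :=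
  ∀ {K : Type u} [Field K] {σ : K →+* K}, HypK σ 0 → ∀ {U : Type v} [Group U] (T : TF σ U) (w : U),
    w ∈ T.QA → w ∉ T.D → w * w = 1 →
    (T.x7 1)⁻¹ * w ∈ T.D ∨ ∃ i < 4, (T.x8 1 0 ^ i * T.x1 1 * (T.x8 1 0 ^ i)⁻¹)⁻¹ * w ∈ T.D

/-- (STA) the stabilizer of `x7 D` in `Aut(QA)` is a 2-group -/
def StStab2A : Prop :=
  ∀ {K : Type u} [Field K] {σ : K →+* K}, HypK σ 0 → ∀ {U : Type v} [Group U] (T : TF σ U) (γ : MulAut T.QA),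
    (∀ e : T.QA, (e : U) = T.x7 1 → (T.x7 1)⁻¹ * ((γ e : T.QA) : U) ∈ T.D) → ∃ n : ℕ, γ ^ 2 ^ n = 1

/-- (CONJ4) the elements of `D ∖ E` are `QA`-conjugate to `x4(1,0)` or its inverse -/
def StConj4 : Prop :=
  ∀ {K : Type u} [Field K] {σ : K →+* K}, HypK σ 0 → ∀ {U : Type v} [Group U] (T : TF σ U) (b : U),
    b ∈ T.D → b ∉ T.E → ∃ g ∈ T.QA, g * b * g⁻¹ = T.x4 1 0 ∨ g * b * g⁻¹ = (T.x4 1 0)⁻¹

/-- (CEN4) -/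
def StCen4 : Prop :=
  ∀ {K : Type u} [Field K] {σ : K →+* K}, HypK σ 0 → ∀ {U : Type v} [Group U] (T : TF σ U) (g : U),
    g ∈ T.QA → (g * T.x4 1 0 * g⁻¹ = T.x4 1 0 ∨ g * T.x4 1 0 * g⁻¹ = (T.x4 1 0)⁻¹) → g ∈ T.D

/-- (TW) a twisted conjugation in `D` -/
def StTw : Prop :=
  ∀ {K : Type u} [Field K] {σ : K →+* K}, HypK σ 0 → ∀ {U : Type v} [Group U] (T : TF σ U) (d : U), d ∈ T.D →
    ((d * T.x8 1 0) ^ 4 ∈ T.Z4 ∨ (T.x4 1 0)⁻¹ * (d * T.x8 1 0) ^ 4 ∈ T.Z4) →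
    ∃ e ∈ T.D, e * (d * T.x8 1 0) * e⁻¹ * (T.x8 1 0)⁻¹ ∈ T.Z4 ∨
      (T.x4 1 0)⁻¹ * (e * (d * T.x8 1 0) * e⁻¹ * (T.x8 1 0)⁻¹) ∈ T.Z4

/-- (FINA) an automorphism of order 5 of `QA` in normal position -/
def StFinA : Prop :=
  ∀ {K : Type u} [Field K] {σ : K →+* K}, HypK σ 0 → ∀ {U : Type v} [Group U] (T : TF σ U)
    (c8 ρ : MulAut T.QA), (∀ e : T.QA, ((c8 e : T.QA) : U) = T.x8 1 0 * e * (T.x8 1 0)⁻¹) →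
    (∀ e : T.QA, (e : U) = T.x4 1 0 → ρ e = e) → ρ ^ 5 = 1 → (∃ k < 5, c8 * ρ * c8⁻¹ = ρ ^ k) →
    (∀ e : T.QA, (e : U) = T.x7 1 → (T.x1 1)⁻¹ * ((ρ e : T.QA) : U) ∈ T.D) →
    ∃ τ : MulAut U, (∀ γ γ' : MulAut T.QB, IsCj τ γ γ' → (γ ∈ T.LamB ↔ γ' ∈ T.LamB)) ∧
      ∀ γ' : MulAut T.QA, IsCj τ ρ γ' → T.LamA = autInducedBy ⊤ T.QA ⊔ Subgroup.closure {γ'}

end Cfsg.Agent.H483.TF
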