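import Cfsg.Agent.H483.TF.A2Def
import Cfsg.Agent.H181.TF.Cen

/-!
# S5262, `q = 2`: the elements of `U` as numbers below 4096 (helper483)

`El T m` is the element whose coordinates `a1 a2 b2 a3 a4 b4 a5 a6 b6 a7 a8 b8` are the binary digits of `m`;
`El T m * El T n = El T (mu m n)`.
-/

set_option autoImplicit false

namespace Cfsg.Agent.H483.TF

open Cfsg Cfsg.Agent.H745.TF Cfsg.Agent.H181.TF

universe u v

/-- `f` is true on `[n 2^k, (n+1) 2^k)` -/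
def allB (f : ℕ → Bool) : ℕ → ℕ → Bool
  | 0, n => f n
  | k + 1, n => allB f k (2 * n) && allB f k (2 * n + 1)

theorem allB_spec (f : ℕ → Bool) : ∀ (k n : ℕ), allB f k n = true → ∀ c, n * 2 ^ k ≤ c → c < (n + 1) * 2 ^ k →
    f c = true := by
  intro k
  induction k with
  | zero =>
    intro n h c h1 h2
    rw [pow_zero, mul_one] at h1
    rw [pow_zero, mul_one] at h2
    have : c = n := by omega
    rw [this]; exact h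
  | succ k ih =>
    intro n h c h1 h2
    rw [allB, Bool.and_eq_true] at h
    rw [pow_succ] at h1 h2
    have e1 : (2 * n + 1) * 2 ^ k = n * (2 ^ k * 2) + 2 ^ k := by ring
    have e2 : 2 * n * 2 ^ k = n * (2 ^ k * 2) := by ring
    have e3 : (2 * n + 1 + 1) * 2 ^ k = (n + 1) * (2 ^ k * 2) := by ring
    rcases lt_or_ge c ((2 * n + 1) * 2 ^ k) with hc | hc
    · exact ih _ h.1 c (by omega) hc
    · exact ih _ h.2 c hc (by omega)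


def q_a1 (m0 n0 : ℕ) : ℕ :=
  (Nat.xor m0 n0)

def q_a2 (m1 m10 n0 n1 : ℕ) : ℕ :=
  (Nat.xor (Nat.xor m1 n1) (Nat.mul m10 n0))

def q_b2 (m1 m2 m4 m7 m10 m11 n0 n1 n2 : ℕ) : ℕ :=
  (Nat.xor (Nat.xor (Nat.xor (Nat.xor (Nat.xor (Nat.xor (Nat.xor m2 n2) (Nat.mul m1 n1)) (Nat.mul m4 n0)) (Nat.mul
    m7 n0)) (Nat.mul (Nat.mul m1 m10) n0)) (Nat.mul (Nat.mul m10 n0) n1)) (Nat.mul (Nat.mul m11 n0) n0))

def q_a3 (m3 m4 m7 m9 m10 m11 n0 n1 n2 n3 : ℕ) : ℕ :=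
  (Nat.xor (Nat.xor (Nat.xor (Nat.xor (Nat.xor (Nat.xor (Nat.xor (Nat.xor (Nat.xor (Nat.xor (Nat.xor m3 n3)
    (Nat.mul m4 n1)) (Nat.mul m7 n0)) (Nat.mul m9 n0)) (Nat.mul m10 n2)) (Nat.mul (Nat.mul m4 m10) n0)) (Nat.mul
    (Nat.mul m10 n1) n1)) (Nat.mul (Nat.mul m11 n0) n0)) (Nat.mul (Nat.mul m11 n0) n1)) (Nat.mul (Nat.mul
    (Nat.mul m10 m11) n0) n0)) (Nat.mul (Nat.mul (Nat.mul m10 m10) n0) n0))

def q_a4 (m4 m10 m11 n0 n1 n4 : ℕ) : ℕ :=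
  (Nat.xor (Nat.xor (Nat.xor m4 n4) (Nat.mul m10 n1)) (Nat.mul m11 n0))

def q_b4 (m4 m5 m6 m7 m8 m9 m10 m11 n0 n1 n2 n3 n4 n5 : ℕ) : ℕ :=
  (Nat.xor (Nat.xor (Nat.xor (Nat.xor (Nat.xor (Nat.xor (Nat.xor (Nat.xor (Nat.xor (Nat.xor (Nat.xor (Nat.xor
    (Nat.xor (Nat.xor (Nat.xor (Nat.xor (Nat.xor (Nat.xor (Nat.xor (Nat.xor (Nat.xor (Nat.xor (Nat.xor (Nat.xor
    (Nat.xor (Nat.xor (Nat.xor (Nat.xor (Nat.xor (Nat.xor (Nat.xor (Nat.xor (Nat.xor (Nat.xor (Nat.xor (Nat.xor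
    (Nat.xor (Nat.xor (Nat.xor (Nat.xor (Nat.xor (Nat.xor (Nat.xor m5 n5) (Nat.mul m4 n4)) (Nat.mul m6 n1))
    (Nat.mul m7 n3)) (Nat.mul m9 n2)) (Nat.mul m10 n3)) (Nat.mul m8 n0)) (Nat.mul m11 n2)) (Nat.mul (Nat.mul m6
    m10) n0)) (Nat.mul (Nat.mul m7 m9) n0)) (Nat.mul (Nat.mul m7 m10) n2)) (Nat.mul (Nat.mul m9 n0) n1))
    (Nat.mul (Nat.mul m9 n1) n1)) (Nat.mul (Nat.mul m10 n1) n3)) (Nat.mul (Nat.mul m10 n1) n4)) (Nat.mul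
    (Nat.mul m11 n0) n2)) (Nat.mul (Nat.mul m11 n0) n4)) (Nat.mul (Nat.mul m11 n0) n3)) (Nat.mul (Nat.mul m11
    n1) n2)) (Nat.mul (Nat.mul m4 m10) n1)) (Nat.mul (Nat.mul m4 m11) n0)) (Nat.mul (Nat.mul (Nat.mul m7 m10)
    n1) n1)) (Nat.mul (Nat.mul (Nat.mul m7 m11) n0) n0)) (Nat.mul (Nat.mul (Nat.mul m7 m11) n0) n1)) (Nat.mul
    (Nat.mul m9 m10) n0)) (Nat.mul (Nat.mul (Nat.mul m9 m10) n0) n1)) (Nat.mul (Nat.mul (Nat.mul m9 m11) n0)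
    n0)) (Nat.mul (Nat.mul (Nat.mul m10 m10) n0) n3)) (Nat.mul (Nat.mul (Nat.mul m10 m10) n1) n2)) (Nat.mul
    (Nat.mul (Nat.mul m11 n0) n1) n1)) (Nat.mul (Nat.mul m11 n1) n1)) (Nat.mul (Nat.mul (Nat.mul (Nat.mul m7
    m10) m11) n0) n0)) (Nat.mul (Nat.mul (Nat.mul (Nat.mul m9 m10) m10) n0) n0)) (Nat.mul (Nat.mul (Nat.mul
    (Nat.mul m10 m11) n0) n0) n1)) (Nat.mul (Nat.mul (Nat.mul m10 m11) n0) n1)) (Nat.mul (Nat.mul (Nat.mul m10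
    m10) n1) n1)) (Nat.mul (Nat.mul (Nat.mul m11 m11) n0) n0)) (Nat.mul (Nat.mul (Nat.mul m11 n0) n0) n1))
    (Nat.mul (Nat.mul (Nat.mul (Nat.mul m7 m10) m10) n0) n0)) (Nat.mul (Nat.mul (Nat.mul m10 m11) n0) n0))
    (Nat.mul (Nat.mul (Nat.mul (Nat.mul m10 m10) m11) n0) n0)) (Nat.mul (Nat.mul (Nat.mul (Nat.mul m10 m10) n0)
    n0) n1)) (Nat.mul (Nat.mul (Nat.mul m10 m10) n0) n0))

def q_a5 (m6 m7 m9 m10 m11 n0 n1 n2 n3 n4 n6 : ℕ) : ℕ :=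
  (Nat.xor (Nat.xor (Nat.xor (Nat.xor (Nat.xor (Nat.xor (Nat.xor (Nat.xor (Nat.xor (Nat.xor (Nat.xor (Nat.xor
    (Nat.xor (Nat.xor (Nat.xor (Nat.xor (Nat.xor m6 n6) (Nat.mul m7 n4)) (Nat.mul m9 n0)) (Nat.mul m9 n1))
    (Nat.mul m10 n3)) (Nat.mul m11 n2)) (Nat.mul (Nat.mul m7 m10) n1)) (Nat.mul (Nat.mul m7 m11) n0)) (Nat.mul
    (Nat.mul m9 m10) n0)) (Nat.mul (Nat.mul m10 n1) n4)) (Nat.mul (Nat.mul m10 m10) n2)) (Nat.mul (Nat.mul m11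
    n0) n1)) (Nat.mul (Nat.mul m11 n0) n4)) (Nat.mul (Nat.mul (Nat.mul m10 m11) n0) n0)) (Nat.mul (Nat.mul
    (Nat.mul m10 m10) n0) n4)) (Nat.mul (Nat.mul m11 n0) n0)) (Nat.mul (Nat.mul (Nat.mul m10 m10) n0) n0))

def q_a6 (m7 m10 m11 n0 n1 n7 : ℕ) : ℕ :=
  (Nat.xor (Nat.xor (Nat.xor (Nat.xor m7 n7) (Nat.mul m10 n1)) (Nat.mul m11 n0)) (Nat.mul (Nat.mul m10 m10) n0))

def q_b6 (m7 m8 m9 m10 m11 n0 n1 n2 n3 n4 n6 n7 n8 : ℕ) : ℕ :=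
  (Nat.xor (Nat.xor (Nat.xor (Nat.xor (Nat.xor (Nat.xor (Nat.xor (Nat.xor (Nat.xor (Nat.xor (Nat.xor (Nat.xor
    (Nat.xor (Nat.xor (Nat.xor (Nat.xor (Nat.xor (Nat.xor (Nat.xor (Nat.xor (Nat.xor (Nat.xor (Nat.xor (Nat.xor
    (Nat.xor (Nat.xor (Nat.xor (Nat.xor (Nat.xor (Nat.xor m8 n8) (Nat.mul m7 n7)) (Nat.mul m9 n1)) (Nat.mul m9
    n4)) (Nat.mul m10 n6)) (Nat.mul m11 n2)) (Nat.mul m11 n3)) (Nat.mul (Nat.mul m7 m11) n0)) (Nat.mul (Nat.mul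
    m9 m10) n0)) (Nat.mul (Nat.mul m9 m10) n1)) (Nat.mul (Nat.mul m9 m11) n0)) (Nat.mul (Nat.mul m10 n1) n7))
    (Nat.mul (Nat.mul m10 m11) n2)) (Nat.mul (Nat.mul m11 n0) n4)) (Nat.mul (Nat.mul m11 n1) n1)) (Nat.mul
    (Nat.mul m11 n0) n7)) (Nat.mul (Nat.mul m11 n1) n4)) (Nat.mul (Nat.mul m7 m10) n1)) (Nat.mul (Nat.mul
    (Nat.mul m10 m11) n0) n1)) (Nat.mul (Nat.mul (Nat.mul m10 m11) n0) n1)) (Nat.mul (Nat.mul (Nat.mul m10 m11)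
    n0) n4)) (Nat.mul (Nat.mul (Nat.mul m10 m10) n0) n7)) (Nat.mul (Nat.mul m10 m10) n2)) (Nat.mul (Nat.mul m11
    n0) n1)) (Nat.mul (Nat.mul (Nat.mul m7 m10) m10) n0)) (Nat.mul (Nat.mul (Nat.mul m10 m11) n0) n0)) (Nat.mul
    (Nat.mul (Nat.mul (Nat.mul m10 m10) m11) n0) n0)) (Nat.mul (Nat.mul (Nat.mul m10 m10) n0) n4)) (Nat.mul
    (Nat.mul (Nat.mul m10 m10) n0) n1)) (Nat.mul (Nat.mul (Nat.mul m10 m10) n0) n0))

def q_a7 (m9 m10 m11 n0 n1 n7 n9 : ℕ) : ℕ :=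
  (Nat.xor (Nat.xor (Nat.xor (Nat.xor (Nat.xor (Nat.xor m9 n9) (Nat.mul m10 n7)) (Nat.mul m11 n0)) (Nat.mul m11
    n1)) (Nat.mul (Nat.mul m10 m11) n0)) (Nat.mul (Nat.mul m10 m10) n0))

def q_a8 (m10 n10 : ℕ) : ℕ :=
  (Nat.xor m10 n10)

def q_b8 (m10 m11 n10 n11 : ℕ) : ℕ :=
  (Nat.xor (Nat.xor m11 n11) (Nat.mul m10 n10))

/-- a number from its digits -/
def ofB (b0 b1 b2 b3 b4 b5 b6 b7 b8 b9 b10 b11 : ℕ) : ℕ :=
  (Nat.add (Nat.mod b0 (nat_lit 2)) (Nat.mul (nat_lit 2) (Nat.add (Nat.mod b1 (nat_lit 2)) (Nat.mul (nat_lit 2)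
    (Nat.add (Nat.mod b2 (nat_lit 2)) (Nat.mul (nat_lit 2) (Nat.add (Nat.mod b3 (nat_lit 2)) (Nat.mul (nat_lit
    2) (Nat.add (Nat.mod b4 (nat_lit 2)) (Nat.mul (nat_lit 2) (Nat.add (Nat.mod b5 (nat_lit 2)) (Nat.mul
    (nat_lit 2) (Nat.add (Nat.mod b6 (nat_lit 2)) (Nat.mul (nat_lit 2) (Nat.add (Nat.mod b7 (nat_lit 2))
    (Nat.mul (nat_lit 2) (Nat.add (Nat.mod b8 (nat_lit 2)) (Nat.mul (nat_lit 2) (Nat.add (Nat.mod b9 (nat_lit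
    2)) (Nat.mul (nat_lit 2) (Nat.add (Nat.mod b10 (nat_lit 2)) (Nat.mul (nat_lit 2) (Nat.mod b11 (nat_lit
    2))))))))))))))))))))))))

/-- the product of codes -/
def mu (m n : ℕ) : ℕ :=
  ofB (q_a1 (Nat.mod m (nat_lit 2)) (Nat.mod n (nat_lit 2)))
    (q_a2 (Nat.mod (Nat.div m (nat_lit 2)) (nat_lit 2)) (Nat.mod (Nat.div m (nat_lit 1024)) (nat_lit 2)) (Nat.mod n (nat_lit 2)) (Nat.mod (Nat.div n (nat_lit 2)) (nat_lit 2)))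
    (q_b2 (Nat.mod (Nat.div m (nat_lit 2)) (nat_lit 2)) (Nat.mod (Nat.div m (nat_lit 4)) (nat_lit 2)) (Nat.mod (Nat.div m (nat_lit 16)) (nat_lit 2)) (Nat.mod (Nat.div m (nat_lit 128)) (nat_lit 2)) (Nat.mod (Nat.div m (nat_lit 1024)) (nat_lit 2)) (Nat.mod (Nat.div m (nat_lit 2048)) (nat_lit 2)) (Nat.mod n (nat_lit 2)) (Nat.mod (Nat.div n (nat_lit 2)) (nat_lit 2)) (Nat.mod (Nat.div n (nat_lit 4)) (nat_lit 2)))
    (q_a3 (Nat.mod (Nat.div m (nat_lit 8)) (nat_lit 2)) (Nat.mod (Nat.div m (nat_lit 16)) (nat_lit 2)) (Nat.mod (Nat.div m (nat_lit 128)) (nat_lit 2)) (Nat.mod (Nat.div m (nat_lit 512)) (nat_lit 2)) (Nat.mod (Nat.div m (nat_lit 1024)) (nat_lit 2)) (Nat.mod (Nat.div m (nat_lit 2048)) (nat_lit 2)) (Nat.mod n (nat_lit 2)) (Nat.mod (Nat.div n (nat_lit 2)) (nat_lit 2)) (Nat.mod (Nat.div n (nat_lit 4)) (nat_lit 2)) (Nat.mod (Nat.div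 n (nat_lit 8)) (nat_lit 2)))
    (q_a4 (Nat.mod (Nat.div m (nat_lit 16)) (nat_lit 2)) (Nat.mod (Nat.div m (nat_lit 1024)) (nat_lit 2)) (Nat.mod (Nat.div m (nat_lit 2048)) (nat_lit 2)) (Nat.mod n (nat_lit 2)) (Nat.mod (Nat.div n (nat_lit 2)) (nat_lit 2)) (Nat.mod (Nat.div n (nat_lit 16)) (nat_lit 2)))
    (q_b4 (Nat.mod (Nat.div m (nat_lit 16)) (nat_lit 2)) (Nat.mod (Nat.div m (nat_lit 32)) (nat_lit 2)) (Nat.mod (Nat.div m (nat_lit 64)) (nat_lit 2)) (Nat.mod (Nat.div m (nat_lit 128)) (nat_lit 2)) (Nat.mod (Nat.div m (nat_lit 256)) (nat_lit 2)) (Nat.mod (Nat.div m (nat_lit 512)) (nat_lit 2)) (Nat.mod (Nat.div m (nat_lit 1024)) (nat_lit 2)) (Nat.mod (Nat.div m (nat_lit 2048)) (nat_lit 2)) (Nat.mod n (nat_lit 2)) (Nat.mod (Nat.div n (nat_lit 2)) (nat_lit 2)) (Nat.mod (Nat.div n (nat_lit 4)) (nat_lit 2)) (Nat.mod (Nat.div n (nat_lit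 8)) (nat_lit 2)) (Nat.mod (Nat.div n (nat_lit 16)) (nat_lit 2)) (Nat.mod (Nat.div n (nat_lit 32)) (nat_lit 2)))
    (q_a5 (Nat.mod (Nat.div m (nat_lit 64)) (nat_lit 2)) (Nat.mod (Nat.div m (nat_lit 128)) (nat_lit 2)) (Nat.mod (Nat.div m (nat_lit 512)) (nat_lit 2)) (Nat.mod (Nat.div m (nat_lit 1024)) (nat_lit 2)) (Nat.mod (Nat.div m (nat_lit 2048)) (nat_lit 2)) (Nat.mod n (nat_lit 2)) (Nat.mod (Nat.div n (nat_lit 2)) (nat_lit 2)) (Nat.mod (Nat.div n (nat_lit 4)) (nat_lit 2)) (Nat.mod (Nat.div n (nat_lit 8)) (nat_lit 2)) (Nat.mod (Nat.div n (nat_lit 16)) (nat_lit 2)) (Nat.mod (Nat.div n (nat_lit 64)) (nat_lit 2)))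
    (q_a6 (Nat.mod (Nat.div m (nat_lit 128)) (nat_lit 2)) (Nat.mod (Nat.div m (nat_lit 1024)) (nat_lit 2)) (Nat.mod (Nat.div m (nat_lit 2048)) (nat_lit 2)) (Nat.mod n (nat_lit 2)) (Nat.mod (Nat.div n (nat_lit 2)) (nat_lit 2)) (Nat.mod (Nat.div n (nat_lit 128)) (nat_lit 2)))
    (q_b6 (Nat.mod (Nat.div m (nat_lit 128)) (nat_lit 2)) (Nat.mod (Nat.div m (nat_lit 256)) (nat_lit 2)) (Nat.mod (Nat.div m (nat_lit 512)) (nat_lit 2)) (Nat.mod (Nat.div m (nat_lit 1024)) (nat_lit 2)) (Nat.mod (Nat.div m (nat_lit 2048)) (nat_lit 2)) (Nat.mod n (nat_lit 2)) (Nat.mod (Nat.div n (nat_lit 2)) (nat_lit 2)) (Nat.mod (Nat.div n (nat_lit 4)) (nat_lit 2)) (Nat.mod (Nat.div n (nat_lit 8)) (nat_lit 2)) (Nat.mod (Nat.div n (nat_lit 16)) (nat_lit 2)) (Nat.mod (Nat.div n (nat_lit 64)) (nat_lit 2)) (Nat.mod (Nat.div n (nat_lit 128)) (nat_lit 2)) (Nat.mod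 (Nat.div n (nat_lit 256)) (nat_lit 2)))
    (q_a7 (Nat.mod (Nat.div m (nat_lit 512)) (nat_lit 2)) (Nat.mod (Nat.div m (nat_lit 1024)) (nat_lit 2)) (Nat.mod (Nat.div m (nat_lit 2048)) (nat_lit 2)) (Nat.mod n (nat_lit 2)) (Nat.mod (Nat.div n (nat_lit 2)) (nat_lit 2)) (Nat.mod (Nat.div n (nat_lit 128)) (nat_lit 2)) (Nat.mod (Nat.div n (nat_lit 512)) (nat_lit 2)))
    (q_a8 (Nat.mod (Nat.div m (nat_lit 1024)) (nat_lit 2)) (Nat.mod (Nat.div n (nat_lit 1024)) (nat_lit 2)))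
    (q_b8 (Nat.mod (Nat.div m (nat_lit 1024)) (nat_lit 2)) (Nat.mod (Nat.div m (nat_lit 2048)) (nat_lit 2)) (Nat.mod (Nat.div n (nat_lit 1024)) (nat_lit 2)) (Nat.mod (Nat.div n (nat_lit 2048)) (nat_lit 2)))


/-! ### the meaning -/

section

variable {K : Type u} [Field K] {σ : K →+* K}

/-- the coordinates -/
def cdN (K : Type u) [Field K] (m : ℕ) : Cd K where
  a1 := (m : K)
  a2 := ((Nat.div m 2 : ℕ) : K)
  b2 := ((Nat.div m 4 : ℕ) : K)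
  a3 := ((Nat.div m 8 : ℕ) : K)
  a4 := ((Nat.div m 16 : ℕ) : K)
  b4 := ((Nat.div m 32 : ℕ) : K)
  a5 := ((Nat.div m 64 : ℕ) : K)
  a6 := ((Nat.div m 128 : ℕ) : K)
  b6 := ((Nat.div m 256 : ℕ) : K)
  a7 := ((Nat.div m 512 : ℕ) : K)
  a8 := ((Nat.div m 1024 : ℕ) : K)
  b8 := ((Nat.div m 2048 : ℕ) : K)

theorem cast_mod (h2 : (2 : K) = 0) (a : ℕ) : ((Nat.mod a 2 : ℕ) : K) = a := by
  have h := Nat.div_add_mod a 2
  have h1 : ((2 * (a / 2) + a % 2 : ℕ) : K) = a := by rw [h]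
  rw [Nat.cast_add, Nat.cast_mul, Nat.cast_ofNat, h2, zero_mul, zero_add] at h1
  exact h1

theorem cast_xor (h2 : (2 : K) = 0) (a b : ℕ) : ((Nat.xor a b : ℕ) : K) = a + b := by
  rw [← cast_mod h2]
  have h1 : Nat.mod (Nat.xor a b) 2 = Nat.mod (a + b) 2 := Nat.xor_mod_two_eq
  rw [h1, cast_mod h2, Nat.cast_add]

theorem cast_mul' (a b : ℕ) : ((Nat.mul a b : ℕ) : K) = a * b := Nat.cast_mul a b

theorem ofB_dig (b0 b1 b2 b3 b4 b5 b6 b7 b8 b9 b10 b11 : ℕ) :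
    Nat.mod (ofB b0 b1 b2 b3 b4 b5 b6 b7 b8 b9 b10 b11) 2 = Nat.mod b0 2 ∧
    Nat.mod (Nat.div (ofB b0 b1 b2 b3 b4 b5 b6 b7 b8 b9 b10 b11) 2) 2 = Nat.mod b1 2 ∧
    Nat.mod (Nat.div (ofB b0 b1 b2 b3 b4 b5 b6 b7 b8 b9 b10 b11) 4) 2 = Nat.mod b2 2 ∧
    Nat.mod (Nat.div (ofB b0 b1 b2 b3 b4 b5 b6 b7 b8 b9 b10 b11) 8) 2 = Nat.mod b3 2 ∧
    Nat.mod (Nat.div (ofB b0 b1 b2 b3 b4 b5 b6 b7 b8 b9 b10 b11) 16) 2 = Nat.mod b4 2 ∧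
    Nat.mod (Nat.div (ofB b0 b1 b2 b3 b4 b5 b6 b7 b8 b9 b10 b11) 32) 2 = Nat.mod b5 2 ∧
    Nat.mod (Nat.div (ofB b0 b1 b2 b3 b4 b5 b6 b7 b8 b9 b10 b11) 64) 2 = Nat.mod b6 2 ∧
    Nat.mod (Nat.div (ofB b0 b1 b2 b3 b4 b5 b6 b7 b8 b9 b10 b11) 128) 2 = Nat.mod b7 2 ∧
    Nat.mod (Nat.div (ofB b0 b1 b2 b3 b4 b5 b6 b7 b8 b9 b10 b11) 256) 2 = Nat.mod b8 2 ∧
    Nat.mod (Nat.div (ofB b0 b1 b2 b3 b4 b5 b6 b7 b8 b9 b10 b11) 512) 2 = Nat.mod b9 2 ∧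
    Nat.mod (Nat.div (ofB b0 b1 b2 b3 b4 b5 b6 b7 b8 b9 b10 b11) 1024) 2 = Nat.mod b10 2 ∧
    Nat.mod (Nat.div (ofB b0 b1 b2 b3 b4 b5 b6 b7 b8 b9 b10 b11) 2048) 2 = Nat.mod b11 2 ∧
    ofB b0 b1 b2 b3 b4 b5 b6 b7 b8 b9 b10 b11 < 4096 := by
  have e : ofB b0 b1 b2 b3 b4 b5 b6 b7 b8 b9 b10 b11 =
    b0 % 2 + 2 * (b1 % 2 + 2 * (b2 % 2 + 2 * (b3 % 2 + 2 * (b4 % 2 + 2 * (b5 % 2 + 2 * (b6 % 2 +
    2 * (b7 % 2 + 2 * (b8 % 2 + 2 * (b9 % 2 + 2 * (b10 % 2 + 2 * (b11 % 2))))))))))) := rfl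
  generalize ofB b0 b1 b2 b3 b4 b5 b6 b7 b8 b9 b10 b11 = n at e ⊢
  change n % 2 = b0 % 2 ∧ n / 2 % 2 = b1 % 2 ∧ n / 4 % 2 = b2 % 2 ∧ n / 8 % 2 = b3 % 2 ∧ n / 16 % 2 = b4 % 2 ∧
    n / 32 % 2 = b5 % 2 ∧ n / 64 % 2 = b6 % 2 ∧ n / 128 % 2 = b7 % 2 ∧ n / 256 % 2 = b8 % 2 ∧
    n / 512 % 2 = b9 % 2 ∧ n / 1024 % 2 = b10 % 2 ∧ n / 2048 % 2 = b11 % 2 ∧ n < 4096
  omega

theorem mu_lt (m n : ℕ) : mu m n < 4096 := (ofB_dig _ _ _ _ _ _ _ _ _ _ _ _).2.2.2.2.2.2.2.2.2.2.2.2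

theorem cdN_mu (hK : HypK σ 0) (m n : ℕ) : cdN K (mu m n) = mul σ (cdN K m) (cdN K n) := by
  have h2 := hK.two
  have hpow : ∀ (a : ℕ), (a : K) ^ 2 = a := by
    intro a
    rcases Nat.even_or_odd a with h | h
    · obtain ⟨b, rfl⟩ := h
      rw [← two_mul, Nat.cast_mul, Nat.cast_ofNat, h2, zero_mul]; ring
    · obtain ⟨b, rfl⟩ := h
      rw [Nat.cast_add, Nat.cast_mul, Nat.cast_ofNat, h2, zero_mul, zero_add, Nat.cast_one, one_pow]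
  have hpow3 : ∀ (a : ℕ), (a : K) ^ 3 = a := by
    intro a; rw [pow_succ, hpow, ← pow_two, hpow]
  obtain ⟨e0, e1, e2, e3, e4, e5, e6, e7, e8, e9, e10, e11, -⟩ := ofB_dig
    (q_a1 (Nat.mod m (nat_lit 2)) (Nat.mod n (nat_lit 2)))
    (q_a2 (Nat.mod (Nat.div m (nat_lit 2)) (nat_lit 2)) (Nat.mod (Nat.div m (nat_lit 1024)) (nat_lit 2)) (Nat.mod n (nat_lit 2)) (Nat.mod (Nat.div n (nat_lit 2)) (nat_lit 2)))
    (q_b2 (Nat.mod (Nat.div m (nat_lit 2)) (nat_lit 2)) (Nat.mod (Nat.div m (nat_lit 4)) (nat_lit 2)) (Nat.mod (Nat.div m (nat_lit 16)) (nat_lit 2)) (Nat.mod (Nat.div m (nat_lit 128)) (nat_lit 2)) (Nat.mod (Nat.div m (nat_lit 1024)) (nat_lit 2)) (Nat.mod (Nat.div m (nat_lit 2048)) (nat_lit 2)) (Nat.mod n (nat_lit 2)) (Nat.mod (Nat.div n (nat_lit 2)) (nat_lit 2)) (Nat.mod (Nat.div n (nat_lit 4)) (nat_lit 2)))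
    (q_a3 (Nat.mod (Nat.div m (nat_lit 8)) (nat_lit 2)) (Nat.mod (Nat.div m (nat_lit 16)) (nat_lit 2)) (Nat.mod (Nat.div m (nat_lit 128)) (nat_lit 2)) (Nat.mod (Nat.div m (nat_lit 512)) (nat_lit 2)) (Nat.mod (Nat.div m (nat_lit 1024)) (nat_lit 2)) (Nat.mod (Nat.div m (nat_lit 2048)) (nat_lit 2)) (Nat.mod n (nat_lit 2)) (Nat.mod (Nat.div n (nat_lit 2)) (nat_lit 2)) (Nat.mod (Nat.div n (nat_lit 4)) (nat_lit 2)) (Nat.mod (Nat.div n (nat_lit 8)) (nat_lit 2)))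
    (q_a4 (Nat.mod (Nat.div m (nat_lit 16)) (nat_lit 2)) (Nat.mod (Nat.div m (nat_lit 1024)) (nat_lit 2)) (Nat.mod (Nat.div m (nat_lit 2048)) (nat_lit 2)) (Nat.mod n (nat_lit 2)) (Nat.mod (Nat.div n (nat_lit 2)) (nat_lit 2)) (Nat.mod (Nat.div n (nat_lit 16)) (nat_lit 2)))
    (q_b4 (Nat.mod (Nat.div m (nat_lit 16)) (nat_lit 2)) (Nat.mod (Nat.div m (nat_lit 32)) (nat_lit 2)) (Nat.mod (Nat.div m (nat_lit 64)) (nat_lit 2)) (Nat.mod (Nat.div m (nat_lit 128)) (nat_lit 2)) (Nat.mod (Nat.div m (nat_lit 256)) (nat_lit 2)) (Nat.mod (Nat.div m (nat_lit 512)) (nat_lit 2)) (Nat.mod (Nat.div m (nat_lit 1024)) (nat_lit 2)) (Nat.mod (Nat.div m (nat_lit 2048)) (nat_lit 2)) (Nat.mod n (nat_lit 2)) (Nat.mod (Nat.div n (nat_lit 2)) (nat_lit 2)) (Nat.mod (Nat.div n (nat_lit 4)) (nat_lit 2)) (Nat.mod (Nat.div n (nat_lit 8)) (nat_lit 2)) (Nat.mod (Nat.div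 n (nat_lit 16)) (nat_lit 2)) (Nat.mod (Nat.div n (nat_lit 32)) (nat_lit 2)))
    (q_a5 (Nat.mod (Nat.div m (nat_lit 64)) (nat_lit 2)) (Nat.mod (Nat.div m (nat_lit 128)) (nat_lit 2)) (Nat.mod (Nat.div m (nat_lit 512)) (nat_lit 2)) (Nat.mod (Nat.div m (nat_lit 1024)) (nat_lit 2)) (Nat.mod (Nat.div m (nat_lit 2048)) (nat_lit 2)) (Nat.mod n (nat_lit 2)) (Nat.mod (Nat.div n (nat_lit 2)) (nat_lit 2)) (Nat.mod (Nat.div n (nat_lit 4)) (nat_lit 2)) (Nat.mod (Nat.div n (nat_lit 8)) (nat_lit 2)) (Nat.mod (Nat.div n (nat_lit 16)) (nat_lit 2)) (Nat.mod (Nat.div n (nat_lit 64)) (nat_lit 2)))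
    (q_a6 (Nat.mod (Nat.div m (nat_lit 128)) (nat_lit 2)) (Nat.mod (Nat.div m (nat_lit 1024)) (nat_lit 2)) (Nat.mod (Nat.div m (nat_lit 2048)) (nat_lit 2)) (Nat.mod n (nat_lit 2)) (Nat.mod (Nat.div n (nat_lit 2)) (nat_lit 2)) (Nat.mod (Nat.div n (nat_lit 128)) (nat_lit 2)))
    (q_b6 (Nat.mod (Nat.div m (nat_lit 128)) (nat_lit 2)) (Nat.mod (Nat.div m (nat_lit 256)) (nat_lit 2)) (Nat.mod (Nat.div m (nat_lit 512)) (nat_lit 2)) (Nat.mod (Nat.div m (nat_lit 1024)) (nat_lit 2)) (Nat.mod (Nat.div m (nat_lit 2048)) (nat_lit 2)) (Nat.mod n (nat_lit 2)) (Nat.mod (Nat.div n (nat_lit 2)) (nat_lit 2)) (Nat.mod (Nat.div n (nat_lit 4)) (nat_lit 2)) (Nat.mod (Nat.div n (nat_lit 8)) (nat_lit 2)) (Nat.mod (Nat.div n (nat_lit 16)) (nat_lit 2)) (Nat.mod (Nat.div n (nat_lit 64)) (nat_lit 2)) (Nat.mod (Nat.div n (nat_lit 128)) (nat_lit 2)) (Nat.mod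 (Nat.div n (nat_lit 256)) (nat_lit 2)))
    (q_a7 (Nat.mod (Nat.div m (nat_lit 512)) (nat_lit 2)) (Nat.mod (Nat.div m (nat_lit 1024)) (nat_lit 2)) (Nat.mod (Nat.div m (nat_lit 2048)) (nat_lit 2)) (Nat.mod n (nat_lit 2)) (Nat.mod (Nat.div n (nat_lit 2)) (nat_lit 2)) (Nat.mod (Nat.div n (nat_lit 128)) (nat_lit 2)) (Nat.mod (Nat.div n (nat_lit 512)) (nat_lit 2)))
    (q_a8 (Nat.mod (Nat.div m (nat_lit 1024)) (nat_lit 2)) (Nat.mod (Nat.div n (nat_lit 1024)) (nat_lit 2)))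
    (q_b8 (Nat.mod (Nat.div m (nat_lit 1024)) (nat_lit 2)) (Nat.mod (Nat.div m (nat_lit 2048)) (nat_lit 2)) (Nat.mod (Nat.div n (nat_lit 1024)) (nat_lit 2)) (Nat.mod (Nat.div n (nat_lit 2048)) (nat_lit 2)))
  change Nat.mod (mu m n) 2 = _ at e0
  change Nat.mod (Nat.div (mu m n) 2) 2 = _ at e1
  change Nat.mod (Nat.div (mu m n) 4) 2 = _ at e2
  change Nat.mod (Nat.div (mu m n) 8) 2 = _ at e3
  change Nat.mod (Nat.div (mu m n) 16) 2 = _ at e4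
  change Nat.mod (Nat.div (mu m n) 32) 2 = _ at e5
  change Nat.mod (Nat.div (mu m n) 64) 2 = _ at e6
  change Nat.mod (Nat.div (mu m n) 128) 2 = _ at e7
  change Nat.mod (Nat.div (mu m n) 256) 2 = _ at e8
  change Nat.mod (Nat.div (mu m n) 512) 2 = _ at e9
  change Nat.mod (Nat.div (mu m n) 1024) 2 = _ at e10
  change Nat.mod (Nat.div (mu m n) 2048) 2 = _ at e11
  have key : ∀ a b : ℕ, Nat.mod a 2 = Nat.mod b 2 → (a : K) = b := fun a b h => by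
    rw [← cast_mod h2 a, h, cast_mod h2]
  apply Cd.ext
  · rw [show (cdN K (mu m n)).a1 = _ from key _ _ e0]
    simp only [q_a1, cast_xor h2, cast_mod h2, mul, cdN, map_natCast, hpow, hpow3]
  · rw [show (cdN K (mu m n)).a2 = _ from key _ _ e1]
    simp only [q_a2, cast_xor h2, cast_mul', cast_mod h2, mul, cdN, map_natCast, hpow, hpow3]
  · rw [show (cdN K (mu m n)).b2 = _ from key _ _ e2]
    simp only [q_b2, cast_xor h2, cast_mul', cast_mod h2, mul, cdN, map_natCast, hpow, hpow3]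
  · rw [show (cdN K (mu m n)).a3 = _ from key _ _ e3]
    simp only [q_a3, cast_xor h2, cast_mul', cast_mod h2, mul, cdN, map_natCast, hpow, hpow3]
  · rw [show (cdN K (mu m n)).a4 = _ from key _ _ e4]
    simp only [q_a4, cast_xor h2, cast_mul', cast_mod h2, mul, cdN, map_natCast, hpow, hpow3]
  · rw [show (cdN K (mu m n)).b4 = _ from key _ _ e5]
    simp only [q_b4, cast_xor h2, cast_mul', cast_mod h2, mul, cdN, map_natCast, hpow, hpow3]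
  · rw [show (cdN K (mu m n)).a5 = _ from key _ _ e6]
    simp only [q_a5, cast_xor h2, cast_mul', cast_mod h2, mul, cdN, map_natCast, hpow, hpow3]
  · rw [show (cdN K (mu m n)).a6 = _ from key _ _ e7]
    simp only [q_a6, cast_xor h2, cast_mul', cast_mod h2, mul, cdN, map_natCast, hpow, hpow3]
  · rw [show (cdN K (mu m n)).b6 = _ from key _ _ e8]
    simp only [q_b6, cast_xor h2, cast_mul', cast_mod h2, mul, cdN, map_natCast, hpow, hpow3]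
  · rw [show (cdN K (mu m n)).a7 = _ from key _ _ e9]
    simp only [q_a7, cast_xor h2, cast_mul', cast_mod h2, mul, cdN, map_natCast, hpow, hpow3]
  · rw [show (cdN K (mu m n)).a8 = _ from key _ _ e10]
    simp only [q_a8, cast_xor h2, cast_mod h2, mul, cdN, map_natCast, hpow, hpow3]
  · rw [show (cdN K (mu m n)).b8 = _ from key _ _ e11]
    simp only [q_b8, cast_xor h2, cast_mul', cast_mod h2, mul, cdN, map_natCast, hpow, hpow3]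

theorem cdN_surj (hK : HypK σ 0) (c : Cd K) : ∃ m < 4096, cdN K m = c := by
  have h2 := hK.two
  have hf : Finite K := hK.fin
  have hc : Nat.card K = 2 := hK.card
  have h01 : ∀ x : K, x = 0 ∨ x = 1 := by
    intro x
    by_contra hx
    push Not at hx
    have := Fintype.ofFinite K
    rw [Nat.card_eq_fintype_card] at hc
    classical
    have h3 : ({0, 1, x} : Finset K).card = 3 := by
      rw [Finset.card_insert_of_notMem, Finset.card_insert_of_notMem, Finset.card_singleton]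
      · simpa using hx.2.symm
      · simp only [Finset.mem_insert, Finset.mem_singleton, not_or]
        exact ⟨zero_ne_one, hx.1.symm⟩
    have h4 := Finset.card_le_univ ({0, 1, x} : Finset K)
    omega
  have hn : ∀ x : K, ∃ a : ℕ, (a : K) = x := by
    intro x
    rcases h01 x with rfl | rfl
    · exact ⟨0, Nat.cast_zero⟩
    · exact ⟨1, Nat.cast_one⟩
  obtain ⟨b0, h0⟩ := hn c.a1
  obtain ⟨b1, h1⟩ := hn c.a2
  obtain ⟨b2, hb2⟩ := hn c.b2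
  obtain ⟨b3, h3⟩ := hn c.a3
  obtain ⟨b4, h4⟩ := hn c.a4
  obtain ⟨b5, h5⟩ := hn c.b4
  obtain ⟨b6, h6⟩ := hn c.a5
  obtain ⟨b7, h7⟩ := hn c.a6
  obtain ⟨b8, h8⟩ := hn c.b6
  obtain ⟨b9, h9⟩ := hn c.a7
  obtain ⟨b10, h10⟩ := hn c.a8
  obtain ⟨b11, h11⟩ := hn c.b8
  obtain ⟨e0, e1, e2, e3, e4, e5, e6, e7, e8, e9, e10, e11, elt⟩ := ofB_dig b0 b1 b2 b3 b4 b5 b6 b7 b8 b9 b10 b11
  have key : ∀ a b : ℕ, Nat.mod a 2 = Nat.mod b 2 → (a : K) = b := fun a b h => by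
    rw [← cast_mod h2 a, h, cast_mod h2]
  refine ⟨_, elt, ?_⟩
  exact Cd.ext ((key _ _ e0).trans h0) ((key _ _ e1).trans h1) ((key _ _ e2).trans hb2) ((key _ _ e3).trans h3)
    ((key _ _ e4).trans h4) ((key _ _ e5).trans h5) ((key _ _ e6).trans h6) ((key _ _ e7).trans h7)
    ((key _ _ e8).trans h8) ((key _ _ e9).trans h9) ((key _ _ e10).trans h10) ((key _ _ e11).trans h11)

theorem cast_iff (h2 : (2 : K) = 0) (a b : ℕ) : (a : K) = b ↔ a % 2 = b % 2 := by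
  constructor
  · intro h
    rw [← cast_mod h2 a, ← cast_mod h2 b] at h
    change ((a % 2 : ℕ) : K) = ((b % 2 : ℕ) : K) at h
    rcases Nat.mod_two_eq_zero_or_one a with ha | ha <;> rcases Nat.mod_two_eq_zero_or_one b with hb | hb <;>
      rw [ha, hb] at h ⊢ <;> simp at h
  · intro h
    rw [← cast_mod h2 a, ← cast_mod h2 b]
    change ((a % 2 : ℕ) : K) = ((b % 2 : ℕ) : K)
    rw [h]

theorem cast_iff0 (h2 : (2 : K) = 0) (a : ℕ) : (a : K) = 0 ↔ a % 2 = 0 := by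
  have := cast_iff h2 a 0
  rwa [Nat.cast_zero] at this

theorem dig_sum {m : ℕ} (hm : m < 4096) : m = m % 2 + 2 * (m / 2 % 2) + 4 * (m / 4 % 2) + 8 * (m / 8 % 2) +
    16 * (m / 16 % 2) + 32 * (m / 32 % 2) + 64 * (m / 64 % 2) + 128 * (m / 128 % 2) + 256 * (m / 256 % 2) +
    512 * (m / 512 % 2) + 1024 * (m / 1024 % 2) + 2048 * (m / 2048 % 2) := by omega

theorem cdN_inj (hK : HypK σ 0) {m n : ℕ} (hm : m < 4096) (hn : n < 4096) (h : cdN K m = cdN K n) : m = n := by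
  have h2 := hK.two
  have f : ∀ i, ((Nat.div m i : ℕ) : K) = ((Nat.div n i : ℕ) : K) → m / i % 2 = n / i % 2 := fun i h =>
    (cast_iff h2 _ _).1 h
  have e0 : m % 2 = n % 2 := (cast_iff h2 _ _).1 (congrArg Cd.a1 h)
  rw [dig_sum hm, dig_sum hn, e0, f 2 (congrArg Cd.a2 h), f 4 (congrArg Cd.b2 h), f 8 (congrArg Cd.a3 h),
    f 16 (congrArg Cd.a4 h), f 32 (congrArg Cd.b4 h), f 64 (congrArg Cd.a5 h), f 128 (congrArg Cd.a6 h),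
    f 256 (congrArg Cd.b6 h), f 512 (congrArg Cd.a7 h), f 1024 (congrArg Cd.a8 h), f 2048 (congrArg Cd.b8 h)]

end

section

variable {K : Type u} [Field K] {σ : K →+* K} (hK : HypK σ 0) {U : Type v} [Group U] (T : TF σ U)

/-- the element with code `m` -/
def El (m : ℕ) : U := T.el (cdN K m)

include hK

theorem El_mul (m n : ℕ) : El T m * El T n = El T (mu m n) := by
  rw [El, El, El, el_mul T hK.two hK.sq, cdN_mu hK]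

theorem El_inj {m n : ℕ} (hm : m < 4096) (hn : n < 4096) (h : El T m = El T n) : m = n :=
  cdN_inj hK hm hn (el_injective T h)

theorem El_surj (g : U) : ∃ m < 4096, El T m = g := by
  obtain ⟨m, hm, h⟩ := cdN_surj hK (cd T g)
  exact ⟨m, hm, by rw [El, h, el_cd]⟩

theorem El_eq_iff {m n : ℕ} (hm : m < 4096) (hn : n < 4096) : El T m = El T n ↔ m = n :=
  ⟨El_inj hK T hm hn, fun h => by rw [h]⟩

theorem El_zero : El T 0 = 1 := by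
  obtain ⟨m, hm, h⟩ := El_surj hK T 1
  have h1 := El_mul hK T 0 0
  rw [show mu 0 0 = 0 from rfl] at h1
  exact mul_eq_left.1 h1

/-! ### membership -/

theorem mem_QA (m : ℕ) : El T m ∈ T.QA ↔ m / 1024 % 2 = 0 ∧ m / 2048 % 2 = 0 := by
  have h2 := hK.two
  rw [QA_eq hK, mem_CS, El, cd_el, pQ_iff]
  exact and_congr (cast_iff0 h2 _) (cast_iff0 h2 _)

theorem mem_QB (m : ℕ) : El T m ∈ T.QB ↔ m % 2 = 0 := by
  rw [QB_eq hK, mem_CS, El, cd_el, pB_iff]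
  exact cast_iff0 hK.two _

theorem mem_D (m : ℕ) : El T m ∈ T.D ↔ m % 2 = 0 ∧ m / 2 % 2 = 0 ∧ m / 128 % 2 = 0 ∧ m / 512 % 2 = 0 ∧
    m / 1024 % 2 = 0 ∧ m / 2048 % 2 = 0 := by
  have h2 := hK.two
  rw [D_eq hK, mem_CS, El, cd_el, pD_iff]
  exact and_congr (cast_iff0 h2 _) (and_congr (cast_iff0 h2 _) (and_congr (cast_iff0 h2 _)
    (and_congr (cast_iff0 h2 _) (and_congr (cast_iff0 h2 _) (cast_iff0 h2 _)))))

theorem mem_E (m : ℕ) : El T m ∈ T.E ↔ m % 2 = 0 ∧ m / 2 % 2 = 0 ∧ m / 16 % 2 = 0 ∧ m / 128 % 2 = 0 ∧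
    m / 512 % 2 = 0 ∧ m / 1024 % 2 = 0 ∧ m / 2048 % 2 = 0 := by
  have h2 := hK.two
  rw [E_eq hK, mem_CS, El, cd_el, pE_iff]
  exact and_congr (cast_iff0 h2 _) (and_congr (cast_iff0 h2 _) (and_congr (cast_iff0 h2 _)
    (and_congr (cast_iff0 h2 _) (and_congr (cast_iff0 h2 _) (and_congr (cast_iff0 h2 _) (cast_iff0 h2 _))))))

theorem mem_Z4 (m : ℕ) (hm : m < 4096) : El T m ∈ T.Z4 ↔ m = 0 ∨ m = 32 := by
  have h2 := hK.two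
  rw [Z4_eq hK, mem_CS, El, cd_el, pZ_iff]
  have e : (cdN K m).a1 = (zc : Cd K).a1 ∧ (cdN K m).a2 = (zc : Cd K).a2 ∧ (cdN K m).b2 = (zc : Cd K).b2 ∧
      (cdN K m).a3 = (zc : Cd K).a3 ∧ (cdN K m).a4 = (zc : Cd K).a4 ∧ (cdN K m).a5 = (zc : Cd K).a5 ∧
      (cdN K m).a6 = (zc : Cd K).a6 ∧ (cdN K m).b6 = (zc : Cd K).b6 ∧ (cdN K m).a7 = (zc : Cd K).a7 ∧
      (cdN K m).a8 = (zc : Cd K).a8 ∧ (cdN K m).b8 = (zc : Cd K).b8 ↔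
      m % 2 = 0 ∧ m / 2 % 2 = 0 ∧ m / 4 % 2 = 0 ∧ m / 8 % 2 = 0 ∧ m / 16 % 2 = 0 ∧ m / 64 % 2 = 0 ∧
      m / 128 % 2 = 0 ∧ m / 256 % 2 = 0 ∧ m / 512 % 2 = 0 ∧ m / 1024 % 2 = 0 ∧ m / 2048 % 2 = 0 :=
    and_congr (cast_iff0 h2 _) (and_congr (cast_iff0 h2 _) (and_congr (cast_iff0 h2 _)
      (and_congr (cast_iff0 h2 _) (and_congr (cast_iff0 h2 _) (and_congr (cast_iff0 h2 _)
      (and_congr (cast_iff0 h2 _) (and_congr (cast_iff0 h2 _) (and_congr (cast_iff0 h2 _)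
      (and_congr (cast_iff0 h2 _) (cast_iff0 h2 _))))))))))
  rw [e]
  omega

end

end Cfsg.Agent.H483.TF
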