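import Cfsg.Agent.H483.TF.Code

/-!
# S5262, `q = 2`, A-side: the small finite facts (helper483)
-/

set_option autoImplicit false

namespace Cfsg.Agent.H483.TF

open Cfsg Cfsg.FusionSystem Cfsg.Agent.H756.PU Cfsg.Agent.H802 Cfsg.Agent.H745.TF Cfsg.Agent.H181.TF

universe u v

/-- all digits of the mask vanish -/
def msk (k m : ℕ) : Bool := Nat.beq (Nat.land m k) (nat_lit 0)

theorem chk_msk : allB (fun m =>
    (msk 3715 m == (Nat.beq (m % 2) 0 && (Nat.beq (m / 2 % 2) 0 && (Nat.beq (m / 128 % 2) 0 && (Nat.beq (m / 512 % 2) 0 &&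
      (Nat.beq (m / 1024 % 2) 0 && Nat.beq (m / 2048 % 2) 0)))))) &&
    ((msk 3731 m == (Nat.beq (m % 2) 0 && (Nat.beq (m / 2 % 2) 0 && (Nat.beq (m / 16 % 2) 0 &&
      (Nat.beq (m / 128 % 2) 0 && (Nat.beq (m / 512 % 2) 0 &&
      (Nat.beq (m / 1024 % 2) 0 && Nat.beq (m / 2048 % 2) 0))))))) &&
    (msk 3072 m == (Nat.beq (m / 1024 % 2) 0 && Nat.beq (m / 2048 % 2) 0)))) 12 0 = true := by
  decide +kernel

section

variable {K : Type u} [Field K] {σ : K →+* K} (hK : HypK σ 0) {U : Type v} [Group U] (T : TF σ U)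

include hK

theorem msk_D {m : ℕ} (hm : m < 4096) : msk 3715 m = true ↔ El T m ∈ T.D := by
  have h := allB_spec _ 12 0 chk_msk m (by omega) (by omega)
  rw [mem_D hK]
  simp only [Bool.and_eq_true, beq_iff_eq] at h
  rw [h.1]
  simp only [Bool.and_eq_true, Nat.beq_eq]

theorem msk_E {m : ℕ} (hm : m < 4096) : msk 3731 m = true ↔ El T m ∈ T.E := by
  have h := allB_spec _ 12 0 chk_msk m (by omega) (by omega)
  rw [mem_E hK]
  simp only [Bool.and_eq_true, beq_iff_eq] at h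
  rw [h.2.1]
  simp only [Bool.and_eq_true, Nat.beq_eq]

theorem msk_QA {m : ℕ} (hm : m < 4096) : msk 3072 m = true ↔ El T m ∈ T.QA := by
  have h := allB_spec _ 12 0 chk_msk m (by omega) (by omega)
  rw [mem_QA hK]
  simp only [Bool.and_eq_true, beq_iff_eq] at h
  rw [h.2.2]
  simp only [Bool.and_eq_true, Nat.beq_eq]

theorem x1_El : T.x1 1 = El T 1 := by
  have h2 := hK.two
  rw [← Cfsg.Agent.H752.TF.el_e1 T]
  refine congrArg T.el (Cd.ext Nat.cast_one.symm ?_ ?_ ?_ ?_ ?_ ?_ ?_ ?_ ?_ ?_ ?_) <;>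
    exact ((cast_iff0 h2 _).2 rfl).symm

theorem x4_El : T.x4 1 0 = El T 16 := by
  have h2 := hK.two
  have f1 : ∀ n : ℕ, n % 2 = 1 → (1 : K) = (n : K) := fun n h => by
    rw [← Nat.cast_one (R := K)]; exact (cast_iff h2 _ _).2 h.symm
  have f0 : ∀ n : ℕ, n % 2 = 0 → (0 : K) = (n : K) := fun n h => ((cast_iff0 h2 _).2 h).symm
  rw [← Cfsg.Agent.H752.TF.el_e4 T]
  exact congrArg T.el (Cd.ext (f0 _ rfl) (f0 _ rfl) (f0 _ rfl) (f0 _ rfl) (f1 _ rfl) (f0 _ rfl) (f0 _ rfl) (f0 _ rfl)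
    (f0 _ rfl) (f0 _ rfl) (f0 _ rfl) (f0 _ rfl))

theorem x7_El : T.x7 1 = El T 512 := by
  have h2 := hK.two
  have f1 : ∀ n : ℕ, n % 2 = 1 → (1 : K) = (n : K) := fun n h => by
    rw [← Nat.cast_one (R := K)]; exact (cast_iff h2 _ _).2 h.symm
  have f0 : ∀ n : ℕ, n % 2 = 0 → (0 : K) = (n : K) := fun n h => ((cast_iff0 h2 _).2 h).symm
  rw [← Cfsg.Agent.H752.TF.el_e7 T]
  exact congrArg T.el (Cd.ext (f0 _ rfl) (f0 _ rfl) (f0 _ rfl) (f0 _ rfl) (f0 _ rfl) (f0 _ rfl) (f0 _ rfl) (f0 _ rfl)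
    (f0 _ rfl) (f1 _ rfl) (f0 _ rfl) (f0 _ rfl))

theorem x8_El : T.x8 1 0 = El T 1024 := by
  have h2 := hK.two
  have f1 : ∀ n : ℕ, n % 2 = 1 → (1 : K) = (n : K) := fun n h => by
    rw [← Nat.cast_one (R := K)]; exact (cast_iff h2 _ _).2 h.symm
  have f0 : ∀ n : ℕ, n % 2 = 0 → (0 : K) = (n : K) := fun n h => ((cast_iff0 h2 _).2 h).symm
  rw [← Cfsg.Agent.H752.TF.el_e8 T]
  exact congrArg T.el (Cd.ext (f0 _ rfl) (f0 _ rfl) (f0 _ rfl) (f0 _ rfl) (f0 _ rfl) (f0 _ rfl) (f0 _ rfl) (f0 _ rfl)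
    (f0 _ rfl) (f0 _ rfl) (f1 _ rfl) (f0 _ rfl))

theorem El_inv {m n : ℕ} (h : mu m n = 0) : (El T m)⁻¹ = El T n := by
  rw [inv_eq_iff_mul_eq_one, El_mul hK, h, El_zero hK]

end

theorem mf1 : mu 1 1 = 0 := by decide +kernel
theorem mf4 : mu 16 48 = 0 := by decide +kernel
theorem mf7 : mu 512 512 = 0 := by decide +kernel
theorem mf8 : mu 1024 3072 = 0 := by decide +kernel
theorem mf88 : mu 1024 1024 = 2048 := by decide +kernel
theorem mf888 : mu 2048 1024 = 3072 := by decide +kernel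
theorem mf8i : mu 3072 1024 = 0 := by decide +kernel
theorem mf4z : mu 16 32 = 48 := by decide +kernel
theorem mf4a : mu 48 16 = 0 := by decide +kernel
theorem mf4b : mu 48 48 = 32 := by decide +kernel
theorem mf82 : mu 2048 2048 = 0 := by decide +kernel

/-! ### INV5 -/

theorem chk_inv5 : allB (fun m => !Nat.beq (mu m m) 0 || msk 3715 m ||
    (msk 3715 (mu 512 m) || [(1, 1), (1024, 3072), (2048, 2048), (3072, 1024)].any fun p =>
      msk 3715 (mu (mu (mu p.1 1) p.2) m))) 10 0 = true := by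
  decide +kernel

theorem stInv5 : StInv5.{u, v} := by
  intro K _ σ hK U _ T w hQ hD hw
  obtain ⟨m, hm, rfl⟩ := El_surj hK T w
  have h1 : m < 1024 := by
    rw [mem_QA hK] at hQ; omega
  have hc := allB_spec _ 10 0 chk_inv5 m (by omega) (by omega)
  rw [El_mul hK, ← El_zero hK T, El_eq_iff hK T (mu_lt _ _) (by norm_num)] at hw
  rw [← msk_D hK T hm] at hD
  simp only [hw, Bool.or_eq_true, Bool.not_eq_true', List.any_cons, List.any_nil, Bool.or_false] at hc
  have e7 : (T.x7 1)⁻¹ = El T 512 := by rw [x7_El hK, El_inv hK T mf7]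
  have e1 : (T.x1 1)⁻¹ = El T 1 := by rw [x1_El hK, El_inv hK T mf1]
  have key : ∀ a b : ℕ, (El T a)⁻¹ = El T b → msk 3715 (mu (mu (mu a 1) b) m) = true →
      (El T a * T.x1 1 * (El T a)⁻¹)⁻¹ * El T m ∈ T.D := by
    intro a b hab h
    rw [msk_D hK T (mu_lt _ _), ← El_mul hK, ← El_mul hK, ← El_mul hK] at h
    rw [mul_inv_rev, mul_inv_rev, inv_inv, e1, hab, ← mul_assoc]
    exact h
  rcases hc with (h | h) | h | h | h | h | h
  · exact absurd h (by simp)
  · exact absurd h hD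
  · left
    rw [e7, El_mul hK, ← msk_D hK T (mu_lt _ _)]; exact h
  · right
    refine ⟨0, by norm_num, ?_⟩
    rw [pow_zero, one_mul, inv_one, mul_one, e1, El_mul hK, ← msk_D hK T (mu_lt _ _)]
    exact h
  · right
    refine ⟨1, by norm_num, ?_⟩
    rw [pow_one, x8_El hK]
    exact key _ _ (El_inv hK T mf8) h
  · right
    refine ⟨2, by norm_num, ?_⟩
    rw [pow_two, x8_El hK, El_mul hK, mf88]
    exact key _ _ (El_inv hK T mf82) h
  · right
    refine ⟨3, by norm_num, ?_⟩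
    rw [pow_succ, pow_two, x8_El hK, El_mul hK, El_mul hK, mf88, mf888]
    exact key _ _ (El_inv hK T mf8i) h

/-! ### CONJ4, CEN4 -/

/-- a transversal of `D` in `QA` -/
def trQ : List ℕ := [0, 1, 2, 3, 128, 129, 130, 131, 512, 513, 514, 515, 640, 641, 642, 643]

theorem chk_conj4 : allB (fun b => !msk 3715 b || msk 3731 b ||
    trQ.any fun g => msk 3072 g && (Nat.beq (mu g b) (mu 16 g) || Nat.beq (mu g b) (mu 48 g))) 10 0 = true := by
  decide +kernel

theorem stConj4 : StConj4.{u, v} := by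
  intro K _ σ hK U _ T b hD hE
  obtain ⟨m, hm, rfl⟩ := El_surj hK T b
  have h1 : m < 1024 := by
    rw [mem_D hK] at hD; omega
  have hc := allB_spec _ 10 0 chk_conj4 m (by omega) (by omega)
  rw [← msk_D hK T hm] at hD
  rw [← msk_E hK T hm] at hE
  simp only [hD, hE, Bool.not_true, Bool.false_or, List.any_eq_true, Bool.and_eq_true, Bool.or_eq_true,
    Nat.beq_eq] at hc
  obtain ⟨g, hg, hgQ, h⟩ := hc
  have hgl : g < 4096 := by
    simp only [trQ, List.mem_cons, List.not_mem_nil, or_false] at hg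
    omega
  refine ⟨El T g, (msk_QA hK T hgl).1 hgQ, ?_⟩
  rcases h with h | h
  · left
    rw [x4_El hK, mul_inv_eq_iff_eq_mul, El_mul hK, El_mul hK, h]
  · right
    rw [x4_El hK, El_inv hK T mf4, mul_inv_eq_iff_eq_mul, El_mul hK, El_mul hK, h]

theorem chk_cen4 : allB (fun g => msk 3715 g || !(Nat.beq (mu g 16) (mu 16 g) || Nat.beq (mu g 16) (mu 48 g))) 10 0 =
    true := by
  decide +kernel

theorem stCen4 : StCen4.{u, v} := by
  intro K _ σ hK U _ T g hQ h
  obtain ⟨m, hm, rfl⟩ := El_surj hK T g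
  have h1 : m < 1024 := by
    rw [mem_QA hK] at hQ; omega
  have hc := allB_spec _ 10 0 chk_cen4 m (by omega) (by omega)
  rw [← msk_D hK T hm]
  rw [Bool.or_eq_true] at hc
  refine hc.resolve_right fun hn => ?_
  rw [Bool.not_eq_true', Bool.or_eq_false_iff] at hn
  rw [x4_El hK, El_inv hK T mf4, mul_inv_eq_iff_eq_mul, mul_inv_eq_iff_eq_mul, El_mul hK,
    El_mul hK, El_mul hK, El_eq_iff hK T (mu_lt _ _) (mu_lt _ _), El_eq_iff hK T (mu_lt _ _) (mu_lt _ _)] at h
  rcases h with h | h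
  · rw [← Nat.beq_eq, hn.1] at h; simp at h
  · rw [← Nat.beq_eq, hn.2] at h; simp at h

/-! ### TW -/

/-- a transversal -/
def trE : List ℕ := [0, 4, 8, 12, 64, 68, 72, 76, 256, 260, 264, 268, 320, 324, 328, 332]

theorem chk_tw : allB (fun d => !msk 3715 d ||
    !(msk 4047 (mu (mu (mu d 1024) (mu d 1024)) (mu (mu d 1024) (mu d 1024)))) ||
    trE.any fun e => msk 3715 e && [0, 32, 16, 48].any fun r =>
      Nat.beq (mu e (mu d 1024)) (mu (mu r 1024) e)) 10 0 = true := by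
  decide +kernel

theorem stTw : StTw.{u, v} := by
  intro K _ σ hK U _ T d hD h
  obtain ⟨m, hm, rfl⟩ := El_surj hK T d
  have h1 : m < 1024 := by
    rw [mem_D hK] at hD; omega
  have hc := allB_spec _ 10 0 chk_tw m (by omega) (by omega)
  rw [← msk_D hK T hm] at hD
  have e4 : (T.x4 1 0)⁻¹ = El T 48 := by rw [x4_El hK, El_inv hK T mf4]
  have hp : (El T m * T.x8 1 0) ^ 4 =
      El T (mu (mu (mu m 1024) (mu m 1024)) (mu (mu m 1024) (mu m 1024))) := by
    rw [x8_El hK, El_mul hK, show (4 : ℕ) = 2 * 2 from rfl, pow_mul, pow_two, pow_two, El_mul hK, El_mul hK]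
  have hh : msk 4047 (mu (mu (mu m 1024) (mu m 1024)) (mu (mu m 1024) (mu m 1024))) = true := by
    rw [hp] at h
    generalize hn : mu (mu (mu m 1024) (mu m 1024)) (mu (mu m 1024) (mu m 1024)) = n at h ⊢
    have hnl : n < 4096 := by rw [← hn]; exact mu_lt _ _
    have hq : El T n = El T 0 ∨ El T n = El T 32 ∨ El T n = El T 16 ∨ El T n = El T 48 := by
      rcases h with h | h
      · rw [mem_Z4 hK T _ hnl] at h
        rcases h with rfl | rfl
        · exact Or.inl rfl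
        · exact Or.inr (Or.inl rfl)
      · rw [e4, El_mul hK, mem_Z4 hK T _ (mu_lt _ _)] at h
        have h3 : El T n = El T 16 * El T (mu 48 n) := by
          rw [← El_mul hK, ← mul_assoc, El_mul hK, mf4, El_zero hK, one_mul]
        rcases h with h | h
        · right; right; left
          rw [h3, h, El_zero hK, mul_one]
        · right; right; right
          rw [h3, h, El_mul hK, mf4z]
    rcases hq with h | h | h | h
    · rw [El_inj hK T hnl (by norm_num) h]; decide +kernel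
    · rw [El_inj hK T hnl (by norm_num) h]; decide +kernel
    · rw [El_inj hK T hnl (by norm_num) h]; decide +kernel
    · rw [El_inj hK T hnl (by norm_num) h]; decide +kernel
  simp only [hD, hh, Bool.not_true, Bool.false_or, List.any_eq_true, Bool.and_eq_true, Nat.beq_eq] at hc
  obtain ⟨e, he, heD, r, hr, h⟩ := hc
  have hel : e < 4096 := by
    simp only [trE, List.mem_cons, List.not_mem_nil, or_false] at he
    omega
  refine ⟨El T e, (msk_D hK T hel).1 heD, ?_⟩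
  have h2 : El T e * (El T m * T.x8 1 0) * (El T e)⁻¹ * (T.x8 1 0)⁻¹ = El T r := by
    rw [mul_inv_eq_iff_eq_mul, mul_inv_eq_iff_eq_mul, x8_El hK, El_mul hK, El_mul hK, El_mul hK, El_mul hK, h]
  rw [h2]
  simp only [List.mem_cons, List.not_mem_nil, or_false] at hr
  rcases hr with rfl | rfl | rfl | rfl
  · left; rw [mem_Z4 hK T _ (by norm_num)]; exact Or.inl rfl
  · left; rw [mem_Z4 hK T _ (by norm_num)]; exact Or.inr rfl
  · right; rw [e4, El_mul hK, mem_Z4 hK T _ (mu_lt _ _)]; exact Or.inl mf4a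
  · right; rw [e4, El_mul hK, mem_Z4 hK T _ (mu_lt _ _)]; exact Or.inr mf4b

end Cfsg.Agent.H483.TF
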