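import Cfsg.Agent.H483.TF.Fin1
import Cfsg.Agent.H240.TF.Rs
import Cfsg.Agent.H805.TF.Syl

/-!
# S5262, `q = 2`, A-side: the automorphisms of order 5 of `QA`, `StFinA` (helper483)
-/

set_option autoImplicit false

namespace Cfsg.Agent.H483.TF

open Cfsg Cfsg.FusionSystem Cfsg.Agent.H756.PU Cfsg.Agent.H802 Cfsg.Agent.H745.TF Cfsg.Agent.H181.TF

universe u v

/-- evaluation of a word at a tuple -/
def evw (t : List ℕ) : List ℕ → ℕ → ℕ
  | [], x => x
  | i :: l, x => evw t l (mu x (t.getD i 0))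

/-- conjugation by `x8` -/
def cj8 (x : ℕ) : ℕ := mu (mu 1024 x) 3072

/-- the relation distinguishes the tuples -/
def vio (t t' : List ℕ) (p : List ℕ × List ℕ) : Bool :=
  Nat.beq (evw t p.1 0) (evw t p.2 0) != Nat.beq (evw t' p.1 0) (evw t' p.2 0)

/-- the relations -/
def rels : List (List ℕ × List ℕ) := [([0, 3, 4, 5, 0, 3], [4, 5]), ([0, 0], []), ([0, 1, 2, 0, 4], [3, 0])]

def tpA (v w2 w3 w4 : ℕ) : List ℕ := [512, v, w2, w3, w4, 16]

def tpB (v w2 w3 w4 : ℕ) : List ℕ := [v, w2, w3, w4, 512, 16]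

/-- the check of a candidate -/
def chkV (v : ℕ) : Bool :=
  !msk 3715 (mu 1 v) || (!Nat.beq (cj8 v) v && (!Nat.beq (cj8 (cj8 v)) v &&
    (rels.any (vio (tpA v (cj8 v) (cj8 (cj8 (cj8 v))) (cj8 (cj8 v))) (tpB v (cj8 v) (cj8 (cj8 (cj8 v))) (cj8 (cj8 v)))) &&
    (Nat.beq v 1 || (Nat.beq v 33 || (Nat.beq v 65 || (Nat.beq v 97 ||
      rels.any (vio (tpA v (cj8 (cj8 (cj8 v))) (cj8 v) (cj8 (cj8 v)))
        (tpB v (cj8 (cj8 (cj8 v))) (cj8 v) (cj8 (cj8 v))))))))))) 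

theorem chkV_true : allB chkV 10 0 = true := by decide +kernel

/-- the elements are products of generators -/
theorem chk_gen : allB (fun m => Nat.beq m 0 || Nat.beq (mu (m - 2 ^ Nat.log2 m) (2 ^ Nat.log2 m)) m) 10 0 = true := by
  decide +kernel


/-! ### words and relations -/

theorem rel_ev {P : ℕ → ℕ → Prop} (hm : ∀ a b a' b', P a b → P a' b' → P (mu a a') (mu b b')) {t t' : List ℕ}
    (ht : ∀ i, P (t.getD i 0) (t'.getD i 0)) : ∀ (l : List ℕ) {x y : ℕ}, P x y → P (evw t l x) (evw t' l y)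
  | [], _, _, h => h
  | i :: l, _, _, h => rel_ev hm ht l (hm _ _ _ _ h (ht i))

theorem evw_lt (t : List ℕ) : ∀ (l : List ℕ) {x : ℕ}, x < 4096 → evw t l x < 4096
  | [], _, h => h
  | _ :: l, _, _ => evw_lt t l (mu_lt _ _)

/-- equality of the lists in the words -/
def chkI (t t' : List ℕ) (W : List (List ℕ)) (g I : List ℕ) : Bool :=
  (W.map fun w => evw t w 0) == g && (W.map fun w => evw t' w 0) == I

theorem rel_chk {P : ℕ → ℕ → Prop} (h0 : P 0 0) (hm : ∀ a b a' b', P a b → P a' b' → P (mu a a') (mu b b'))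
    {t t' : List ℕ} (ht : ∀ i, P (t.getD i 0) (t'.getD i 0)) {W : List (List ℕ)} {g I : List ℕ}
    (h : chkI t t' W g I = true) (i : ℕ) : P (g.getD i 0) (I.getD i 0) := by
  rw [chkI, Bool.and_eq_true, beq_iff_eq, beq_iff_eq] at h
  rw [← h.1, ← h.2]
  simp only [List.getD_eq_getElem?_getD, List.getElem?_map]
  cases W[i]? with
  | none => exact h0
  | some w => exact rel_ev hm ht w h0

section

variable {K : Type u} [Field K] {σ : K →+* K} (hK : HypK σ 0) {U : Type v} [Group U] (T : TF σ U)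

/-- `f` carries the element with code `a` to the element with code `b` -/
def Mp (f : MulAut T.QA) (a b : ℕ) : Prop := ∃ e : T.QA, (e : U) = El T a ∧ ((f e : T.QA) : U) = El T b

variable {T} {f g : MulAut T.QA}

include hK

theorem Mp.zero : Mp T f 0 0 := ⟨1, (El_zero hK T).symm, by rw [map_one]; exact (El_zero hK T).symm⟩

theorem Mp.mul {a b a' b' : ℕ} (h : Mp T f a b) (h' : Mp T f a' b') : Mp T f (mu a a') (mu b b') := by
  obtain ⟨e, h1, h2⟩ := h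
  obtain ⟨e', h1', h2'⟩ := h'
  exact ⟨e * e', by rw [Subgroup.coe_mul, h1, h1', El_mul hK], by rw [map_mul, Subgroup.coe_mul, h2, h2', El_mul hK]⟩

theorem Mp.iff {a b a' b' : ℕ} (h : Mp T f a b) (h' : Mp T f a' b') (ha : a < 4096) (hb : b < 4096) (ha' : a' < 4096)
    (hb' : b' < 4096) : a = a' ↔ b = b' := by
  obtain ⟨e, h1, h2⟩ := h
  obtain ⟨e', h1', h2'⟩ := h'
  rw [← El_eq_iff hK T ha ha', ← El_eq_iff hK T hb hb', ← h1, ← h2, ← h1', ← h2', Subtype.coe_inj, Subtype.coe_inj,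
    f.injective.eq_iff]

omit hK in
theorem Mp.comp {a b c : ℕ} (h : Mp T f a b) (h' : Mp T g b c) : Mp T (g * f) a c := by
  obtain ⟨e, h1, h2⟩ := h
  obtain ⟨e', h1', h2'⟩ := h'
  have : e' = f e := Subtype.ext (h1'.trans h2.symm)
  subst this
  exact ⟨e, h1, h2'⟩

/-- automorphisms are determined by the images of the generators -/
theorem gen_ext {I : List ℕ} (hf : ∀ i < 10, Mp T f (2 ^ i) (I.getD i 0)) (hg : ∀ i < 10, Mp T g (2 ^ i) (I.getD i 0)) :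
    f = g := by
  have key : ∀ m < 1024, ∃ b, Mp T f m b ∧ Mp T g m b := by
    intro m
    induction m using Nat.strong_induction_on with
    | _ m ih =>
      intro hm
      rcases Nat.eq_zero_or_pos m with rfl | h0
      · exact ⟨0, Mp.zero hK, Mp.zero hK⟩
      · have h1 := allB_spec _ 10 0 chk_gen m (by omega) (by omega)
        rw [Bool.or_eq_true, Nat.beq_eq, Nat.beq_eq] at h1
        have h2 := h1.resolve_left (by omega)
        have h3 : Nat.log2 m < 10 := (Nat.log2_lt (by omega)).2 hm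
        have h4 : 0 < 2 ^ Nat.log2 m := Nat.two_pow_pos _
        obtain ⟨b, hb1, hb2⟩ := ih (m - 2 ^ Nat.log2 m) (by omega) (by omega)
        rw [← h2]
        exact ⟨_, hb1.mul hK (hf _ h3), hb2.mul hK (hg _ h3)⟩
  apply MulEquiv.ext
  intro e
  obtain ⟨m, hm, h⟩ := El_surj hK T (e : U)
  have h1 : El T m ∈ T.QA := by rw [h]; exact e.2
  rw [mem_QA hK] at h1
  obtain ⟨b, ⟨e1, h2, h3⟩, e2, h4, h5⟩ := key m (by omega)
  have e1' : e1 = e := Subtype.ext (h2.trans h)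
  have e2' : e2 = e := Subtype.ext (h4.trans h)
  subst e1'
  rw [e2'] at h5
  exact Subtype.ext (h3.trans h5.symm)

theorem mem_QA_of {a : ℕ} (ha : a < 1024) : El T a ∈ T.QA := by
  rw [mem_QA hK]; omega

theorem mp_conj {x a b : ℕ} (hf : ∀ e : T.QA, ((f e : T.QA) : U) = El T x * e * (El T x)⁻¹) (ha : a < 1024)
    (h : mu x a = mu b x) : Mp T f a b :=
  ⟨⟨El T a, mem_QA_of hK ha⟩, rfl, by rw [hf, mul_inv_eq_iff_eq_mul, El_mul hK, El_mul hK, h]⟩

end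

/-! ### the classification -/

/-- the generators of `QA` -/
def g10 : List ℕ := [1, 2, 4, 8, 16, 32, 64, 128, 256, 512]

def I1 : List ℕ := [863, 169, 300, 68, 16, 32, 8, 2, 4, 1]
def I33 : List ℕ := [863, 137, 300, 68, 16, 32, 8, 2, 4, 33]
def I65 : List ℕ := [535, 205, 300, 68, 16, 32, 8, 290, 4, 65]
def I97 : List ℕ := [535, 237, 300, 68, 16, 32, 8, 290, 4, 97]

/-- the generators as words in the tuple -/
def W1 : List (List ℕ) := [[1], [0, 1, 5, 2], [0, 1, 0, 2, 1, 2], [0, 2, 3, 1, 4], [5], [5, 5], [1, 2, 0, 3, 4],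
  [1, 0, 5, 4], [0, 5, 0, 5, 5, 5], [0]]
def W33 : List (List ℕ) := [[1, 5, 5], [0, 1, 5, 2], [0, 1, 0, 2, 1, 2], [0, 2, 3, 1, 4], [5], [5, 5], [1, 2, 0, 3, 4],
  [1, 0, 5, 4], [0, 5, 0, 5, 5, 5], [0]]
def W65 : List (List ℕ) := [[2, 0, 3, 4], [3, 4, 5], [0, 1, 0, 2, 1, 2], [0, 2, 3, 1, 4], [5], [5, 5], [1, 2, 0, 3, 4],
  [1, 0, 5, 4], [0, 5, 0, 5, 5, 5], [0]]
def W97 : List (List ℕ) := [[4, 1, 4], [3, 4, 5], [0, 1, 0, 2, 1, 2], [0, 2, 3, 1, 4], [5], [5, 5], [1, 2, 0, 3, 4],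
  [1, 0, 5, 4], [0, 5, 0, 5, 5, 5], [0]]

/-- the checks of the four solutions -/
def chk4 (v : ℕ) (W : List (List ℕ)) (I : List ℕ) : Bool :=
  chkI (tpA v (cj8 (cj8 (cj8 v))) (cj8 v) (cj8 (cj8 v))) (tpB v (cj8 (cj8 (cj8 v))) (cj8 v) (cj8 (cj8 v))) W g10 I

theorem chk4_true : (chk4 1 W1 I1 && (chk4 33 W33 I33 && (chk4 65 W65 I65 && chk4 97 W97 I97))) = true := by
  decide +kernel

theorem mf_c7 : cj8 512 = 512 := by decide +kernel
theorem mf_17 : msk 3715 (mu 1 512) = false := by decide +kernel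

theorem nbf {a b : ℕ} : Nat.beq a b = false ↔ a ≠ b := by
  rw [ne_eq, ← Nat.beq_eq, Bool.not_eq_true]

theorem g10_get {i : ℕ} (hi : i < 10) : g10.getD i 0 = 2 ^ i := by
  interval_cases i <;> rfl

section

variable {K : Type u} [Field K] {σ : K →+* K} (hK : HypK σ 0) {U : Type v} [Group U] {T : TF σ U}

include hK

theorem rels_ok {f : MulAut T.QA} {t t' : List ℕ} (ht : ∀ i, Mp T f (t.getD i 0) (t'.getD i 0)) :
    rels.any (vio t t') = false := by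
  rw [List.any_eq_false]
  intro p _
  have h0 := Mp.zero hK (T := T) (f := f)
  have hm : ∀ a b a' b', Mp T f a b → Mp T f a' b' → Mp T f (mu a a') (mu b b') := fun _ _ _ _ h h' => h.mul hK h'
  have e1 := rel_ev hm ht p.1 h0
  have e2 := rel_ev hm ht p.2 h0
  have h := e1.iff hK e2 (evw_lt _ _ (by norm_num)) (evw_lt _ _ (by norm_num)) (evw_lt _ _ (by norm_num))
    (evw_lt _ _ (by norm_num))
  rw [vio, bne_iff_ne, ne_eq, not_not, Bool.eq_iff_iff, Nat.beq_eq, Nat.beq_eq]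
  exact h

theorem rho_class {c8 ρ : MulAut T.QA} (h8 : ∀ e : T.QA, ((c8 e : T.QA) : U) = T.x8 1 0 * e * (T.x8 1 0)⁻¹)
    (h4 : ∀ e : T.QA, (e : U) = T.x4 1 0 → ρ e = e) (h5 : ρ ^ 5 = 1) (hk : ∃ k < 5, c8 * ρ * c8⁻¹ = ρ ^ k)
    (h1 : ∀ e : T.QA, (e : U) = T.x7 1 → (T.x1 1)⁻¹ * ((ρ e : T.QA) : U) ∈ T.D) :
    ∃ I ∈ [I1, I33, I65, I97], ∀ i < 10, Mp T ρ (2 ^ i) (I.getD i 0) := by
  let e7 : T.QA := ⟨El T 512, mem_QA_of hK (by norm_num)⟩
  have he7 : (e7 : U) = El T 512 := rfl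
  have hW : ∀ i : ℕ, ∃ m < 4096, El T m = (((ρ ^ i) e7 : T.QA) : U) := fun i => El_surj hK T _
  choose W hW1 hW2 using hW
  have W0 : W 0 = 512 := El_inj hK T (hW1 0) (by norm_num) (by rw [hW2, pow_zero]; rfl)
  have W5 : ∀ i, W (i + 5) = W i := fun i => El_inj hK T (hW1 _) (hW1 _) (by rw [hW2, hW2, pow_add, h5, mul_one])
  have W0' : W 5 = 512 := by rw [← W0]; exact W5 0
  have hstep : ∀ i, Mp T ρ (W i) (W (i + 1)) := fun i =>
    ⟨(ρ ^ i) e7, (hW2 i).symm, by rw [hW2, pow_succ', MulAut.mul_apply]⟩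
  have h8' : ∀ e : T.QA, ∀ a, (e : U) = El T a → ((c8 e : T.QA) : U) = El T (cj8 a) := by
    intro e a he
    rw [h8, he, x8_El hK, El_inv hK T mf8, El_mul hK, El_mul hK]
    rfl
  have hc7 : c8 e7 = e7 := Subtype.ext (by rw [h8' e7 512 rfl, mf_c7])
  obtain ⟨k, hk5, hk⟩ := hk
  have hki : ∀ i, c8 * ρ ^ i = ρ ^ (k * i) * c8 := by
    intro i
    rw [← mul_inv_eq_iff_eq_mul, ← conj_pow, hk, ← pow_mul]
  have hcj : ∀ i, cj8 (W i) = W (k * i) := by
    intro i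
    have hlt : cj8 (W i) < 4096 := mu_lt _ _
    refine El_inj hK T hlt (hW1 _) ?_
    rw [← h8' _ _ (hW2 i).symm, hW2, ← MulAut.mul_apply, hki, MulAut.mul_apply, hc7]
  -- the check
  have hv : msk 3715 (mu 1 (W 1)) = true := by
    rw [msk_D hK T (mu_lt _ _), ← El_mul hK, hW2, pow_one]
    have := h1 e7 (x7_El hK T).symm
    rwa [x1_El hK, El_inv hK T mf1] at this
  have hv1 : W 1 < 1024 := by
    have h2 : El T (W 1) ∈ T.QA := by rw [hW2]; exact ((ρ ^ 1) e7).2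
    rw [mem_QA hK] at h2
    have := hW1 1
    omega
  have hc := allB_spec _ 10 0 chkV_true (W 1) (by omega) (by omega)
  have hp16 : Mp T ρ 16 16 := by
    refine ⟨⟨El T 16, mem_QA_of hK (by norm_num)⟩, rfl, ?_⟩
    rw [h4 _ (x4_El hK T).symm]
  have ht : ∀ i, Mp T ρ ((tpA (W 1) (W 2) (W 3) (W 4)).getD i 0) ((tpB (W 1) (W 2) (W 3) (W 4)).getD i 0) := by
    intro i
    match i with
    | 0 =>
      have := hstep 0
      rw [W0] at this
      exact this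
    | 1 => exact hstep 1
    | 2 => exact hstep 2
    | 3 => exact hstep 3
    | 4 =>
      have := hstep 4
      rw [W0'] at this
      exact this
    | 5 => exact hp16
    | (n + 6) => exact Mp.zero hK
  have hr := rels_ok hK ht
  rw [chkV, hv] at hc
  simp only [Bool.not_true, Bool.false_or, Bool.and_eq_true, Bool.not_eq_true', nbf] at hc
  obtain ⟨n1, n2, n3, n4⟩ := hc
  interval_cases k
  · exfalso
    have h2 := hcj 1
    have h3 := hcj 0
    rw [zero_mul] at h2 h3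
    rw [pow_zero, mul_inv_eq_one] at hk
    have h4 : ρ = 1 := mul_left_cancel (a := c8) (by rw [hk, mul_one])
    have h5 : W 1 = 512 := El_inj hK T (hW1 1) (by norm_num) (by rw [hW2, h4, one_pow]; rfl)
    rw [h5, mf_17] at hv
    exact absurd hv (by simp)
  · exact absurd (by have := hcj 1; rwa [one_mul] at this) n1
  · exfalso
    have a1 : cj8 (W 1) = W 2 := hcj 1
    have a2 : cj8 (W 2) = W 4 := hcj 2
    have a3 : cj8 (W 4) = W 3 := (hcj 4).trans (W5 3)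
    rw [a1, a2, a3, hr] at n3
    exact absurd n3 (by simp)
  · have a1 : cj8 (W 1) = W 3 := hcj 1
    have a2 : cj8 (W 3) = W 4 := (hcj 3).trans (W5 4)
    have a3 : cj8 (W 4) = W 2 := (hcj 4).trans ((W5 7).trans (W5 2))
    rw [a1, a2, a3, hr] at n4
    simp only [Bool.or_eq_true, Bool.or_false, Nat.beq_eq] at n4
    have hm : ∀ a b a' b', Mp T ρ a b → Mp T ρ a' b' → Mp T ρ (mu a a') (mu b b') := fun _ _ _ _ h h' => h.mul hK h'
    have hq := chk4_true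
    simp only [Bool.and_eq_true] at hq
    obtain ⟨q1, q2, q3, q4⟩ := hq
    have fin : ∀ v (Wd : List (List ℕ)) (I : List ℕ), W 1 = v → chk4 v Wd I = true → I ∈ [I1, I33, I65, I97] →
        ∃ I ∈ [I1, I33, I65, I97], ∀ i < 10, Mp T ρ (2 ^ i) (I.getD i 0) := by
      intro v Wd I hv hc hI
      rw [chk4, ← hv, a1, a2, a3] at hc
      refine ⟨I, hI, fun i hi => ?_⟩
      rw [← g10_get hi]
      exact rel_chk (Mp.zero hK) hm ht hc i
    rcases n4 with h | h | h | h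
    · exact fin 1 W1 I1 h q1 (by simp)
    · exact fin 33 W33 I33 h q2 (by simp)
    · exact fin 65 W65 I65 h q3 (by simp)
    · exact fin 97 W97 I97 h q4 (by simp)
  · refine absurd ?_ n2
    have a1 := hcj 1
    have a2 := hcj (4 * 1)
    rw [a1, a2]
    exact (W5 11).trans ((W5 6).trans (W5 1))

end


/-! ### the Weyl element -/

def IW : List ℕ := [512, 128, 256, 64, 16, 32, 8, 2, 4, 1]
/-- the conjugates of the generators under `z8` -/
def IC : List ℕ := [765, 802, 356, 264, 16, 32, 64, 128, 256, 512]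
/-- and as words in the generators -/
def VC : List (List ℕ) := [[0, 2, 3, 4, 5, 6, 7, 9], [1, 5, 8, 9], [2, 5, 6, 8], [3, 8], [4], [5], [6], [7], [8], [9]]

theorem chkC_true : (chkI g10 IW VC IC I1 &&
    ((List.zip g10 IC).all fun p => Nat.beq (mu 2048 p.1) (mu p.2 2048)) &&
    ((List.zip I1 I33).all fun p => Nat.beq (mu 260 p.1) (mu p.2 260))) = true := by
  decide +kernel

section

variable {K : Type u} [Field K] {σ : K →+* K} (hK : HypK σ 0) {U : Type v} [Group U] {T : TF σ U}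

include hK

theorem f1_of {n : ℕ} (h : n % 2 = 1) : (1 : K) = (n : K) := by
  rw [← Nat.cast_one (R := K)]; exact (cast_iff hK.two _ _).2 h.symm

theorem f0_of {n : ℕ} (h : n % 2 = 0) : (0 : K) = (n : K) := ((cast_iff0 hK.two _).2 h).symm

variable (T)

theorem x2_El : T.x2 1 0 = El T 2 := by
  have f1 : ∀ n : ℕ, n % 2 = 1 → (1 : K) = (n : K) := fun n h => f1_of hK h
  have f0 : ∀ n : ℕ, n % 2 = 0 → (0 : K) = (n : K) := fun n h => f0_of hK h
  rw [← Cfsg.Agent.H752.TF.el_e2 T]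
  exact congrArg T.el (Cd.ext (f0 _ rfl) (f1 _ rfl) (f0 _ rfl) (f0 _ rfl) (f0 _ rfl) (f0 _ rfl) (f0 _ rfl) (f0 _ rfl)
    (f0 _ rfl) (f0 _ rfl) (f0 _ rfl) (f0 _ rfl))

theorem z2_El : T.x2 0 1 = El T 4 := by
  have f1 : ∀ n : ℕ, n % 2 = 1 → (1 : K) = (n : K) := fun n h => f1_of hK h
  have f0 : ∀ n : ℕ, n % 2 = 0 → (0 : K) = (n : K) := fun n h => f0_of hK h
  rw [← Cfsg.Agent.H752.TF.el_e2 T]
  exact congrArg T.el (Cd.ext (f0 _ rfl) (f0 _ rfl) (f1 _ rfl) (f0 _ rfl) (f0 _ rfl) (f0 _ rfl) (f0 _ rfl) (f0 _ rfl)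
    (f0 _ rfl) (f0 _ rfl) (f0 _ rfl) (f0 _ rfl))

theorem x3_El : T.x3 1 = El T 8 := by
  have f1 : ∀ n : ℕ, n % 2 = 1 → (1 : K) = (n : K) := fun n h => f1_of hK h
  have f0 : ∀ n : ℕ, n % 2 = 0 → (0 : K) = (n : K) := fun n h => f0_of hK h
  rw [← Cfsg.Agent.H752.TF.el_e3 T]
  exact congrArg T.el (Cd.ext (f0 _ rfl) (f0 _ rfl) (f0 _ rfl) (f1 _ rfl) (f0 _ rfl) (f0 _ rfl) (f0 _ rfl) (f0 _ rfl)
    (f0 _ rfl) (f0 _ rfl) (f0 _ rfl) (f0 _ rfl))

theorem z4_El : T.x4 0 1 = El T 32 := by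
  have f1 : ∀ n : ℕ, n % 2 = 1 → (1 : K) = (n : K) := fun n h => f1_of hK h
  have f0 : ∀ n : ℕ, n % 2 = 0 → (0 : K) = (n : K) := fun n h => f0_of hK h
  rw [← Cfsg.Agent.H752.TF.el_e4 T]
  exact congrArg T.el (Cd.ext (f0 _ rfl) (f0 _ rfl) (f0 _ rfl) (f0 _ rfl) (f0 _ rfl) (f1 _ rfl) (f0 _ rfl) (f0 _ rfl)
    (f0 _ rfl) (f0 _ rfl) (f0 _ rfl) (f0 _ rfl))

theorem x5_El : T.x5 1 = El T 64 := by
  have f1 : ∀ n : ℕ, n % 2 = 1 → (1 : K) = (n : K) := fun n h => f1_of hK h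
  have f0 : ∀ n : ℕ, n % 2 = 0 → (0 : K) = (n : K) := fun n h => f0_of hK h
  rw [← Cfsg.Agent.H752.TF.el_e5 T]
  exact congrArg T.el (Cd.ext (f0 _ rfl) (f0 _ rfl) (f0 _ rfl) (f0 _ rfl) (f0 _ rfl) (f0 _ rfl) (f1 _ rfl) (f0 _ rfl)
    (f0 _ rfl) (f0 _ rfl) (f0 _ rfl) (f0 _ rfl))

theorem x6_El : T.x6 1 0 = El T 128 := by
  have f1 : ∀ n : ℕ, n % 2 = 1 → (1 : K) = (n : K) := fun n h => f1_of hK h
  have f0 : ∀ n : ℕ, n % 2 = 0 → (0 : K) = (n : K) := fun n h => f0_of hK h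
  rw [← Cfsg.Agent.H752.TF.el_e6 T]
  exact congrArg T.el (Cd.ext (f0 _ rfl) (f0 _ rfl) (f0 _ rfl) (f0 _ rfl) (f0 _ rfl) (f0 _ rfl) (f0 _ rfl) (f1 _ rfl)
    (f0 _ rfl) (f0 _ rfl) (f0 _ rfl) (f0 _ rfl))

theorem z6_El : T.x6 0 1 = El T 256 := by
  have f1 : ∀ n : ℕ, n % 2 = 1 → (1 : K) = (n : K) := fun n h => f1_of hK h
  have f0 : ∀ n : ℕ, n % 2 = 0 → (0 : K) = (n : K) := fun n h => f0_of hK h
  rw [← Cfsg.Agent.H752.TF.el_e6 T]
  exact congrArg T.el (Cd.ext (f0 _ rfl) (f0 _ rfl) (f0 _ rfl) (f0 _ rfl) (f0 _ rfl) (f0 _ rfl) (f0 _ rfl) (f0 _ rfl)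
    (f1 _ rfl) (f0 _ rfl) (f0 _ rfl) (f0 _ rfl))

variable {T}

theorem wa_ims {w : MulAut T.QA} (hw : T.IsWa w) : ∀ i, Mp T w (g10.getD i 0) (IW.getD i 0) := by
  have q : ∀ {a : ℕ}, a < 1024 → El T a ∈ T.QA := fun h => mem_QA_of hK h
  intro i
  match i with
  | 0 => exact ⟨⟨El T 1, q (by norm_num)⟩, rfl, by rw [hw.e1 _ 1 (x1_El hK T).symm, x7_El hK]; rfl⟩
  | 1 => exact ⟨⟨El T 2, q (by norm_num)⟩, rfl, by rw [hw.e2 _ 1 0 (x2_El hK T).symm, x6_El hK]; rfl⟩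
  | 2 => exact ⟨⟨El T 4, q (by norm_num)⟩, rfl, by rw [hw.e2 _ 0 1 (z2_El hK T).symm, z6_El hK]; rfl⟩
  | 3 => exact ⟨⟨El T 8, q (by norm_num)⟩, rfl, by rw [hw.e3 _ 1 (x3_El hK T).symm, x5_El hK]; rfl⟩
  | 4 => exact ⟨⟨El T 16, q (by norm_num)⟩, rfl, by rw [hw.e4 _ 1 0 (x4_El hK T).symm, x4_El hK]; rfl⟩
  | 5 => exact ⟨⟨El T 32, q (by norm_num)⟩, rfl, by rw [hw.e4 _ 0 1 (z4_El hK T).symm, z4_El hK]; rfl⟩
  | 6 => exact ⟨⟨El T 64, q (by norm_num)⟩, rfl, by rw [hw.e5 _ 1 (x5_El hK T).symm, x3_El hK]; rfl⟩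
  | 7 => exact ⟨⟨El T 128, q (by norm_num)⟩, rfl, by rw [hw.e6 _ 1 0 (x6_El hK T).symm, x2_El hK]; rfl⟩
  | 8 => exact ⟨⟨El T 256, q (by norm_num)⟩, rfl, by rw [hw.e6 _ 0 1 (z6_El hK T).symm, z2_El hK]; rfl⟩
  | 9 => exact ⟨⟨El T 512, q (by norm_num)⟩, rfl, by rw [hw.e7 _ 1 (x7_El hK T).symm, x1_El hK]; rfl⟩
  | (n + 10) => exact Mp.zero hK

/-- conjugation by the element with code `x` -/
theorem exists_cA (x : ℕ) : ∃ c ∈ autInducedBy (⊤ : Subgroup U) T.QA,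
    ∀ e : T.QA, ((c e : T.QA) : U) = El T x * e * (El T x)⁻¹ := by
  have hn : T.QA.Normal := Cfsg.Agent.H752.TF.QA_normal hK T
  have h1 : El T x ∈ Subgroup.normalizer (T.QA : Set U) := by
    rw [Subgroup.normalizer_eq_top_iff.2 hn]; exact Subgroup.mem_top _
  obtain ⟨c, hc⟩ := exists_conjAut h1
  exact ⟨c, (mem_autInducedBy_iff _ _ _).2 ⟨_, Subgroup.mem_top _, hc⟩, hc⟩

/-- the conclusion -/
theorem lamA_eq {I : List ℕ} (hI : I = I1 ∨ I = I33) {γ : MulAut T.QA} (h : ∀ i < 10, Mp T γ (2 ^ i) (I.getD i 0)) :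
    T.LamA = autInducedBy ⊤ T.QA ⊔ Subgroup.closure {γ} := by
  obtain ⟨w, hw⟩ := Cfsg.Agent.H805.TF.exists_wa T hK
  have hset : {γ | T.IsWa γ} = {w} := by
    ext γ
    exact ⟨fun h => Cfsg.Agent.H240.TF.wa_unique h hw, fun h => by rw [Set.mem_singleton_iff] at h; rw [h]; exact hw⟩
  have hq := chkC_true
  rw [Bool.and_eq_true, Bool.and_eq_true, List.all_eq_true, List.all_eq_true] at hq
  obtain ⟨⟨q1, q2⟩, q3⟩ := hq
  have key : ∃ a ∈ autInducedBy (⊤ : Subgroup U) T.QA, ∃ b ∈ autInducedBy (⊤ : Subgroup U) T.QA, γ = a * w * b := by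
    obtain ⟨b, hb, hb'⟩ := exists_cA hK (T := T) 2048
    have h1 : ∀ i < 10, Mp T b (2 ^ i) (IC.getD i 0) := by
      intro i hi
      apply mp_conj hK hb' (by interval_cases i <;> norm_num)
      have := q2 ((2 ^ i, IC.getD i 0)) (by interval_cases i <;> simp [g10, IC])
      rw [Nat.beq_eq] at this
      exact this
    have h2 : ∀ i < 10, Mp T (w * b) (2 ^ i) (I1.getD i 0) := by
      intro i hi
      refine (h1 i hi).comp ?_
      exact rel_chk (Mp.zero hK) (fun _ _ _ _ h h' => h.mul hK h') (wa_ims hK hw) q1 i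
    rcases hI with rfl | rfl
    · exact ⟨1, one_mem _, b, hb, by rw [one_mul]; exact gen_ext hK h h2⟩
    · obtain ⟨a, ha, ha'⟩ := exists_cA hK (T := T) 260
      refine ⟨a, ha, b, hb, ?_⟩
      rw [mul_assoc]
      refine gen_ext hK h fun i hi => (h2 i hi).comp ?_
      apply mp_conj hK ha' (by interval_cases i <;> simp [I1])
      have := q3 ((I1.getD i 0, I33.getD i 0)) (by interval_cases i <;> simp [I1, I33])
      rw [Nat.beq_eq] at this
      exact this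
  obtain ⟨a, ha, b, hb, rfl⟩ := key
  rw [TF.LamA, hset]
  apply le_antisymm
  · refine sup_le le_sup_left ((Subgroup.closure_le _).2 (Set.singleton_subset_iff.2 ?_))
    have h1 : a * w * b ∈ autInducedBy (⊤ : Subgroup U) T.QA ⊔ Subgroup.closure {a * w * b} :=
      Subgroup.mem_sup_right (Subgroup.subset_closure rfl)
    have h2 := mul_mem (mul_mem (inv_mem (Subgroup.mem_sup_left (T := Subgroup.closure {a * w * b}) ha)) h1)
      (inv_mem (Subgroup.mem_sup_left (T := Subgroup.closure {a * w * b}) hb))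
    rwa [show a⁻¹ * (a * w * b) * b⁻¹ = w by group] at h2
  · refine sup_le le_sup_left ((Subgroup.closure_le _).2 (Set.singleton_subset_iff.2 ?_))
    exact mul_mem (mul_mem (Subgroup.mem_sup_left ha) (Subgroup.mem_sup_right (Subgroup.subset_closure rfl)))
      (Subgroup.mem_sup_left hb)

end

/-! ### the twist and the conclusion -/

def g12 : List ℕ := [1, 2, 4, 8, 16, 32, 64, 128, 256, 512, 1024, 2048]
/-- the images of the generators under `τ` -/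
def IT : List ℕ := [65, 290, 4, 8, 16, 32, 64, 128, 256, 512, 1056, 2048]
def IA : List ℕ := [65, 290, 4, 8, 16, 32, 64, 128, 256, 512]
def WT : List (List ℕ) := [[0, 6], [1, 5, 8], [2], [3], [4], [5], [6], [7], [8], [9]]
def B65 : List ℕ := [543, 233, 300, 68, 16, 32, 8, 290, 4, 65]
def V65 : List (List ℕ) := [[0, 1, 2, 3, 4, 9], [0, 3, 5, 6, 7], [2, 3, 5, 8], [2, 6], [4], [5], [3], [1, 5, 8], [2], [0, 6]]
def B97 : List ℕ := [543, 201, 300, 68, 16, 32, 8, 290, 4, 97]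
def V97 : List (List ℕ) := [[0, 1, 2, 3, 4, 9], [0, 3, 6, 7], [2, 3, 5, 8], [2, 6], [4], [5], [3], [1, 5, 8], [2],
  [0, 5, 6]]

theorem chkT_true : (chkI g12 IT WT IA g10 && (chkI g10 I65 WT IA B65 && (chkI g12 IT V65 B65 I1 &&
    (chkI g10 I97 WT IA B97 && chkI g12 IT V97 B97 I33)))) = true := by
  decide +kernel

section

variable {K : Type u} [Field K] {σ : K →+* K} (hK : HypK σ 0) {U : Type v} [Group U] {T : TF σ U}

include hK

theorem twist {τ : MulAut U} (hτ : ∀ i, τ (El T (g12.getD i 0)) = El T (IT.getD i 0)) {ρ γ : MulAut T.QA}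
    (hcj : IsCj τ ρ γ) {I B J : List ℕ} {V : List (List ℕ)} (h : ∀ i < 10, Mp T ρ (2 ^ i) (I.getD i 0))
    (hI : I.length = 10) (h1 : chkI g12 IT WT IA g10 = true) (h2 : chkI g10 I WT IA B = true)
    (h3 : chkI g12 IT V B J = true) : ∀ i < 10, Mp T γ (2 ^ i) (J.getD i 0) := by
  intro i hi
  have ht : ∀ i, Mp T ρ (g10.getD i 0) (I.getD i 0) := by
    intro i
    rcases lt_or_ge i 10 with hi | hi
    · rw [g10_get hi]; exact h i hi
    · rw [List.getD_eq_default _ _ (by simpa [g10] using hi), List.getD_eq_default _ _ (by omega)]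
      exact Mp.zero hK
  have e2 := rel_chk (Mp.zero hK) (fun _ _ _ _ h h' => h.mul hK h') ht h2 i
  have hz : τ (El T 0) = El T 0 := by rw [El_zero hK, map_one]
  have hm : ∀ a b a' b', τ (El T a) = El T b → τ (El T a') = El T b' → τ (El T (mu a a')) = El T (mu b b') := by
    intro a b a' b' h h'
    rw [← El_mul hK, ← El_mul hK, map_mul, h, h']
  have e1 := rel_chk (P := fun a b => τ (El T a) = El T b) hz hm hτ h1 i
  have e3 := rel_chk (P := fun a b => τ (El T a) = El T b) hz hm hτ h3 i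
  rw [g10_get hi] at e1
  obtain ⟨e, he1, he2⟩ := e2
  have hlt : 2 ^ i < 1024 := Nat.pow_lt_pow_right (by norm_num) hi
  refine ⟨⟨El T (2 ^ i), mem_QA_of hK hlt⟩, rfl, ?_⟩
  rw [hcj e ⟨El T (2 ^ i), mem_QA_of hK hlt⟩ (by rw [he1]; exact e1.symm), he2]
  exact e3

end

/-- (TAU) the automorphism `τ` (helper782: `stTau`) -/
def StTau : Prop :=
  ∀ {K : Type u} [Field K] {σ : K →+* K}, HypK σ 0 → ∀ {U : Type v} [Group U] (T : TF σ U),
    ∃ τ : MulAut U, τ (El T 1) = El T 65 ∧ τ (El T 2) = El T 290 ∧ τ (El T 1024) = El T 1056 ∧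
      (∀ m ∈ [4, 8, 16, 32, 64, 128, 256, 512, 2048], τ (El T m) = El T m) ∧
      ∀ γ γ' : MulAut T.QB, IsCj τ γ γ' → (γ ∈ T.LamB ↔ γ' ∈ T.LamB)

theorem stFinA_of (hT : StTau.{u, v}) : StFinA.{u, v} := by
  intro K _ σ hK U _ T c8 ρ h8 h4 h5 hk h1
  obtain ⟨I, hI, h⟩ := rho_class hK h8 h4 h5 hk h1
  have hone : ∀ {Q : Subgroup U} {γ γ' : MulAut Q}, IsCj 1 γ γ' → γ' = γ := fun h =>
    MulEquiv.ext fun e => Subtype.ext (h e e rfl)
  have case1 : I = I1 ∨ I = I33 → ∃ τ : MulAut U, (∀ γ γ' : MulAut T.QB, IsCj τ γ γ' → (γ ∈ T.LamB ↔ γ' ∈ T.LamB)) ∧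
      ∀ γ' : MulAut T.QA, IsCj τ ρ γ' → T.LamA = autInducedBy ⊤ T.QA ⊔ Subgroup.closure {γ'} := by
    intro hI
    refine ⟨1, fun γ γ' h => by rw [hone h], fun γ' h' => ?_⟩
    rw [hone h']
    exact lamA_eq hK hI h
  obtain ⟨τ, t1, t2, t3, t4, t5⟩ := hT hK T
  have hτ : ∀ i, τ (El T (g12.getD i 0)) = El T (IT.getD i 0) := by
    intro i
    match i with
    | 0 => exact t1
    | 1 => exact t2
    | 2 => exact t4 4 (by simp)
    | 3 => exact t4 8 (by simp)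
    | 4 => exact t4 16 (by simp)
    | 5 => exact t4 32 (by simp)
    | 6 => exact t4 64 (by simp)
    | 7 => exact t4 128 (by simp)
    | 8 => exact t4 256 (by simp)
    | 9 => exact t4 512 (by simp)
    | 10 => exact t3
    | 11 => exact t4 2048 (by simp)
    | (n + 12) => change τ (El T 0) = El T 0; rw [El_zero hK, map_one]
  have hq := chkT_true
  simp only [Bool.and_eq_true] at hq
  obtain ⟨q1, q2, q3, q4, q5⟩ := hq
  simp only [List.mem_cons, List.not_mem_nil, or_false] at hI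
  rcases hI with hI | hI | rfl | rfl
  · exact case1 (Or.inl hI)
  · exact case1 (Or.inr hI)
  · exact ⟨τ, t5, fun γ' h' => lamA_eq hK (Or.inl rfl) (twist hK hτ h' h rfl q1 q2 q3)⟩
  · exact ⟨τ, t5, fun γ' h' => lamA_eq hK (Or.inr rfl) (twist hK hτ h' h rfl q1 q4 q5)⟩

end Cfsg.Agent.H483.TF
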